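import Mathlib
import Cfsg.Agent.Fischer.ES2
import Cfsg.Agent.PGrp.Sym3
import Cfsg.Agent.Core.Coprime
import Cfsg.Agent.Comp2.GenFitting

/-! Pairs of large extraspecial subgroups. -/

set_option autoImplicit false

namespace Cfsg.Agent.PLocal

open Cfsg Subgroup LocalEven Fischer
open scoped commutatorElement

variable {G : Type*} [Group G] {Q Q' : Subgroup G} {z s : G}

theorem commute_cj_iff (g a b : G) : Commute (g * a * g⁻¹) b ↔ Commute a (g⁻¹ * b * g) := by
  simp only [commute_iff_eq]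
  constructor
  · intro e
    calc a * (g⁻¹ * b * g) = g⁻¹ * (g * a * g⁻¹ * b) * g := by group
      _ = _ := by rw [e]; group
  · intro e
    calc g * a * g⁻¹ * b = g * (a * (g⁻¹ * b * g)) * g⁻¹ := by group
      _ = _ := by rw [e]; group

theorem ls_cent_P [Finite G] (h : LS Q z) (hs : s ∈ Q) (hs2 : s * s = 1) {g : G}
    (hgz : Commute g z) (hg : ∀ p ∈ Q, Commute s p → Commute g p) :
    g = 1 ∨ g = z ∨ g = s ∨ g = s * z := by
  refine h.cent_cent hs (h.mem_of_trivial hgz fun a ha => ?_) hg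
  by_cases hsa : Commute s a
  · exact Or.inl (Inv.commute_iff_conj.1 (hg a ha hsa))
  have ha' := h.norm g hgz a ha
  have hsq : (g * a * g⁻¹) * (g * a * g⁻¹) = a * a := by
    rw [conj_mul]
    rcases h.sq a ha with e | e <;> rw [e]
    · simp
    · exact Inv.commute_iff_conj.1 hgz
  have hsi : s⁻¹ = s := inv_eq_of_mul_eq_one_right hs2
  have k : s * a * (s * a) ≠ a * a := fun e => hsa (Inv.commute_iff_conj.2 (by
    rw [hsi]; exact mul_right_cancel (b := a) (by rw [← e]; group)))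
  rcases h.cent_cent hs (mul_mem ha' (inv_mem ha)) (fun p hp hsp => by
    rw [h.commute_mul_iff ha' (inv_mem ha) hp, commute_cj_iff, Commute.inv_left_iff,
      show g⁻¹ * p * g = p by rw [mul_assoc, ← (hg p hp hsp).eq]; simp]) with e | e | e | e
  · exact Or.inl (mul_inv_eq_one.1 e)
  · exact Or.inr (by rw [mul_inv_eq_iff_eq_mul.1 e, (h.central a ha).eq])
  · rw [mul_inv_eq_iff_eq_mul.1 e] at hsq
    exact (k hsq).elim
  · rw [mul_inv_eq_iff_eq_mul.1 e] at hsq
    refine (k ?_).elim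
    rw [← hsq]
    have h1 := (h.central _ (mul_mem hs ha)).eq
    calc s * a * (s * a) = (z * (z * (s * a))) * (s * a) := by rw [h.zcancel]
      _ = (z * (s * a)) * (z * (s * a)) := by
        rw [mul_assoc z (z * (s * a)), mul_assoc z (s * a) (z * (s * a)), ← mul_assoc (s * a) z,
          ← h1]
      _ = _ := by rw [← mul_assoc z s, (h.central s hs).eq]

/-- elements normalizing `R` and centralizing `S` modulo `R` -/
def cmod (R : Subgroup G) (S : Set G) : Subgroup G where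
  carrier := {x | x ∈ normalizer (R : Set G) ∧ ∀ c ∈ S, x * c * x⁻¹ * c⁻¹ ∈ R}
  one_mem' := ⟨one_mem _, fun c _ => by simp⟩
  mul_mem' := fun {x y} hx hy => ⟨mul_mem hx.1 hy.1, fun c hc => by
    have := mul_mem (conj_mem_of_mem_normalizer hx.1 (hy.2 c hc)) (hx.2 c hc)
    convert this using 1; group⟩
  inv_mem' := fun {x} hx => ⟨inv_mem hx.1, fun c hc => by
    have := inv_conj_mem_of_mem_normalizer hx.1 (inv_mem (hx.2 c hc))
    convert this using 1; group⟩

theorem six_cases {Y : Type*} [Group Y] {a b : Y} (ha : a * a = 1) (hb : b * b = 1)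
    (hab : b * a * b = a * b * a) {x : Y} (hx : x ∈ closure ({a, b} : Set Y)) :
    x = 1 ∨ x = a ∨ x = b ∨ x = a * b ∨ x = b * a ∨ x = a * b * a := by
  have ha' : ∀ y, y * a * a = y := fun y => by rw [mul_assoc, ha, mul_one]
  have hb' : ∀ y, y * b * b = y := fun y => by rw [mul_assoc, hb, mul_one]
  have key : ∀ x y : Y, (y = a ∨ y = b) →
      (x = 1 ∨ x = a ∨ x = b ∨ x = a * b ∨ x = b * a ∨ x = a * b * a) →
      (x * y = 1 ∨ x * y = a ∨ x * y = b ∨ x * y = a * b ∨ x * y = b * a ∨ x * y = a * b * a) := by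
    rintro x y (e | e) (e' | e' | e' | e' | e' | e') <;> rw [e, e']
    all_goals first
      | (simp only [one_mul, ha, hb, ha', hb', hab, true_or, or_true]; done)
      | (rw [← hab, hb']; simp)
  induction hx using closure_induction_right with
  | one => simp
  | mul_right x _ y hy ih => exact key x y hy ih
  | mul_inv_cancel x _ y hy ih =>
    refine key x y⁻¹ ?_ ih
    rcases hy with rfl | rfl
    exacts [Or.inl (inv_eq_of_mul_eq_one_right ha), Or.inr (inv_eq_of_mul_eq_one_right hb)]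

/-- a pair of conjugate large extraspecial subgroups containing each other's centre -/
structure Pr (Q Q' : Subgroup G) (z s : G) : Prop where
  l : LS Q z
  r : LS Q' s
  hs : s ∈ Q
  hz : z ∈ Q'
  ne : s ≠ z
  tr : ∀ x, x * z * x⁻¹ = s → cj x Q = Q'

theorem pr_of (h : LS Q z) {g : G} (hs : g * z * g⁻¹ ∈ Q) (hne : g * z * g⁻¹ ≠ z) :
    Pr Q (cj g Q) z (g * z * g⁻¹) :=
  ⟨h, h.cj g, hs, h.symm hs, hne, fun _ e => h.cj_eq e⟩

/-- conjugating `z` to `s` -/
theorem conj_swap {y y' : G} (hz : z * z = 1) (hs : s * s = 1) (hc : Commute z s)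
    (h1 : y * z * y⁻¹ = z) (h2 : y * s * y⁻¹ = s * z) (h3 : y' * z * y'⁻¹ = z * s)
    (h4 : y' * s * y'⁻¹ = s) :
    (y' * y * y') * z * (y' * y * y')⁻¹ = s ∧ (y' * y * y') * s * (y' * y * y')⁻¹ = z := by
  constructor
  · calc (y' * y * y') * z * (y' * y * y')⁻¹ = y' * (y * (y' * z * y'⁻¹) * y⁻¹) * y'⁻¹ := by group
      _ = s := by
        rw [h3, ← conj_mul (b := y), h1, h2, ← hc.eq, ← mul_assoc z, hz, one_mul, h4]
  · calc (y' * y * y') * s * (y' * y * y')⁻¹ = y' * (y * (y' * s * y'⁻¹) * y⁻¹) * y'⁻¹ := by group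
      _ = z := by
        rw [h4, h2, ← conj_mul, h4, h3, hc.eq, ← mul_assoc, hs, one_mul]

namespace Pr

theorem symm (h : Pr Q Q' z s) : Pr Q' Q s z :=
  ⟨h.r, h.l, h.hz, h.hs, h.ne.symm, fun x e => by
    rw [cj_eq_iff]; exact (h.tr x⁻¹ (by rw [← e]; group)).symm⟩

theorem comm (h : Pr Q Q' z s) : Commute z s := h.l.central s h.hs

theorem mem_V (h : Pr Q Q' z s) {x : G} :
    x ∈ closure ({z, s} : Set G) ↔ x = 1 ∨ x = z ∨ x = s ∨ x = z * s :=
  Inv.mem_closure_commute_iff h.l.zsq h.r.zsq h.comm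

theorem zV (z s : G) : z ∈ closure ({z, s} : Set G) := subset_closure (by simp)
theorem sV (z s : G) : s ∈ closure ({z, s} : Set G) := subset_closure (by simp)

theorem mem_CV {c : G} :
    c ∈ centralizer ((closure ({z, s} : Set G) : Subgroup G) : Set G) ↔ Commute c z ∧ Commute c s := by
  rw [centralizer_closure, mem_centralizer_iff]
  simp only [Set.mem_insert_iff, Set.mem_singleton_iff, forall_eq_or_imp, forall_eq]
  exact ⟨fun h => ⟨h.1.symm, h.2.symm⟩, fun h => ⟨h.1.symm, h.2.symm⟩⟩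

theorem four (h : Pr Q Q' z s) : IsKleinFour (closure ({z, s} : Set G)) :=
  Inv.isKleinFour_closure h.l.orderOf h.r.orderOf h.comm h.ne.symm

theorem norm_V [Finite G] (h : Pr Q Q' z s) :
    Q ≤ normalizer ((closure ({z, s} : Set G) : Subgroup G) : Set G) := fun q hq =>
  mem_normalizer_fintype fun v hv => by
    have hvQ : v ∈ Q := (closure_le _).2 (by rintro _ (rfl | rfl); exacts [h.l.mem, h.hs]) hv
    rcases h.l.conj q hq v hvQ with e | e <;> rw [e]
    exacts [hv, mul_mem hv (zV z s)]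

theorem norm_P (h : Pr Q Q' z s) {c : G} (h1 : Commute c z) (h2 : Commute c s) :
    c ∈ normalizer ((Q ⊓ centralizer {s} : Subgroup G) : Set G) := by
  refine le_normalizer_inf (L := zpowers c) (zpowers_le.2 (h.l.mem_normalizer h1))
    (zpowers_le.2 (le_normalizer (Inv.mem_centralizer_single.2 h2))) (mem_zpowers c)

theorem comm_Q (h : Pr Q Q' z s) {q c : G} (hq : q ∈ Q) (h1 : Commute c z) (h2 : Commute c s) :
    q * c * q⁻¹ * c⁻¹ ∈ Q ⊓ centralizer {s} := by
  refine ⟨by simpa [mul_assoc] using mul_mem hq (h.l.norm c h1 _ (inv_mem hq)),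
    Inv.mem_centralizer_single.2 (Commute.mul_left ?_ h2.inv_left)⟩
  rw [commute_cj_iff]
  rcases h.l.conj _ (inv_mem hq) s h.hs with e | e <;> rw [inv_inv] at e <;> rw [e]
  exacts [h2, h2.mul_right h1]

theorem P_le (h : Pr Q Q' z s) {p : G} (hp : p ∈ Q ⊓ centralizer {s}) :
    Commute p z ∧ Commute p s :=
  ⟨(h.l.central p hp.1).symm, Inv.mem_centralizer_single.1 hp.2⟩

theorem R_le (h : Pr Q Q' z s) {r : G} (hr : r ∈ (Q' ⊓ centralizer {z}) ⊔ (Q ⊓ centralizer {s})) :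
    Commute r z ∧ Commute r s := by
  have : (Q' ⊓ centralizer {z}) ⊔ (Q ⊓ centralizer {s}) ≤
      centralizer ((closure ({z, s} : Set G) : Subgroup G) : Set G) :=
    sup_le (fun p hp => mem_CV.2 (h.symm.P_le hp).symm) fun p hp => mem_CV.2 (h.P_le hp)
  exact mem_CV.1 (this hr)

theorem norm_R (h : Pr Q Q' z s) {c : G} (h1 : Commute c z) (h2 : Commute c s) :
    c ∈ normalizer (((Q' ⊓ centralizer {z}) ⊔ (Q ⊓ centralizer {s}) : Subgroup G) : Set G) :=
  le_normalizer_sup (L := zpowers c) (zpowers_le.2 (h.symm.norm_P h2 h1))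
    (zpowers_le.2 (h.norm_P h1 h2)) (mem_zpowers c)

theorem Q_le_cmod [Finite G] (h : Pr Q Q' z s) {R : Subgroup G} (hR : Q ⊓ centralizer {s} ≤ R)
    (hR' : ∀ r ∈ R, Commute r z ∧ Commute r s) :
    Q ≤ cmod R (centralizer ((closure ({z, s} : Set G) : Subgroup G) : Set G)) := fun q hq =>
  ⟨mem_normalizer_fintype fun r hr => by
    have := mul_mem (hR (h.comm_Q hq (hR' r hr).1 (hR' r hr).2)) hr
    simpa using this, fun _ hc => hR (h.comm_Q hq (mem_CV.1 hc).1 (mem_CV.1 hc).2)⟩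

theorem X_le_cmod [Finite G] (h : Pr Q Q' z s) :
    Q ⊔ Q' ≤ cmod ((Q' ⊓ centralizer {z}) ⊔ (Q ⊓ centralizer {s}))
      (centralizer ((closure ({z, s} : Set G) : Subgroup G) : Set G)) := by
  refine sup_le (h.Q_le_cmod le_sup_right fun r hr => h.R_le hr) ?_
  rw [Set.pair_comm]
  exact h.symm.Q_le_cmod le_sup_left fun r hr => (h.R_le hr).symm

theorem X_norm_V [Finite G] (h : Pr Q Q' z s) :
    Q ⊔ Q' ≤ normalizer ((closure ({z, s} : Set G) : Subgroup G) : Set G) :=
  sup_le h.norm_V (by rw [Set.pair_comm]; exact h.symm.norm_V)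

theorem E_sq (h : Pr Q Q' z s) {x : G} (hx : x ∈ Q ⊓ Q') : x * x = 1 := by
  rcases h.l.sq x hx.1 with e | e
  · exact e
  · exact (h.r.sq x hx.2).resolve_right fun e' => h.ne (e'.symm.trans e)

theorem PP (h : Pr Q Q' z s) : (Q' ⊓ centralizer {z}) ⊓ (Q ⊓ centralizer {s}) = Q ⊓ Q' :=
  le_antisymm (fun _ hx => ⟨hx.2.1, hx.1.1⟩) fun x hx =>
    ⟨⟨hx.2, Inv.mem_centralizer_single.2 (h.l.central x hx.1).symm⟩,
      hx.1, Inv.mem_centralizer_single.2 (h.r.central x hx.2).symm⟩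

theorem X_le_cmod_E [Finite G] (h : Pr Q Q' z s) :
    Q ⊔ Q' ≤ cmod (closure ({z, s} : Set G)) (Q ⊓ Q' : Subgroup G) := by
  have key : ∀ {Q Q' : Subgroup G} {z s : G}, Pr Q Q' z s →
      Q ≤ cmod (closure ({z, s} : Set G)) (Q ⊓ Q' : Subgroup G) := fun {Q Q' z s} h q hq =>
    ⟨h.norm_V hq, fun c hc => by
      rcases h.l.conj q hq c hc.1 with e | e <;> rw [e]
      · simp
      · rw [← (h.l.central c hc.1).eq]; simpa using zV z s⟩
  refine sup_le (key h) ?_
  rw [Set.pair_comm, inf_comm]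
  exact key h.symm

theorem norm_E (h : Pr Q Q' z s) {c : G} (h1 : Commute c z) (h2 : Commute c s) :
    c ∈ normalizer ((Q ⊓ Q' : Subgroup G) : Set G) :=
  le_normalizer_inf (L := zpowers c) (zpowers_le.2 (h.l.mem_normalizer h1))
    (zpowers_le.2 (h.r.mem_normalizer h2)) (mem_zpowers c)

theorem R_sq (h : Pr Q Q' z s) {r : G} (hr : r ∈ (Q' ⊓ centralizer {z}) ⊔ (Q ⊓ centralizer {s})) :
    r * r ∈ Q ⊓ Q' := by
  obtain ⟨a, ha, b, hb, rfl⟩ := (mem_sup_iff_of_le_normalizer fun p hp =>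
    h.norm_P (h.symm.P_le hp).2 (h.symm.P_le hp).1).1 hr
  have ha' := h.symm.P_le ha
  have hb' := h.P_le hb
  have h1 : a * a ∈ Q ⊓ Q' := by
    rcases h.r.sq a ha.1 with e | e <;> rw [e]
    exacts [one_mem _, ⟨h.hs, h.r.mem⟩]
  have h2 : b * b ∈ Q ⊓ Q' := by
    rcases h.l.sq b hb.1 with e | e <;> rw [e]
    exacts [one_mem _, ⟨h.l.mem, h.hz⟩]
  have h3 : a⁻¹ * b * a * b⁻¹ ∈ Q ⊓ Q' := by
    have ha1 : a ∈ Q' := ha.1
    have hb1 : b ∈ Q := hb.1
    refine mem_inf.2 ⟨mul_mem (by simpa using h.l.norm _ ha'.2.inv_left b hb1) (inv_mem hb1), ?_⟩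
    simpa [mul_assoc] using mul_mem (inv_mem ha1) (h.r.norm _ hb'.2 a ha1)
  have := mul_mem (mul_mem h1 h3) h2
  convert this using 1; group

theorem R_comm (h : Pr Q Q' z s) {x y : G}
    (hx : x ∈ (Q' ⊓ centralizer {z}) ⊔ (Q ⊓ centralizer {s}))
    (hy : y ∈ (Q' ⊓ centralizer {z}) ⊔ (Q ⊓ centralizer {s})) : x * y * x⁻¹ * y⁻¹ ∈ Q ⊓ Q' := by
  have h1 := h.R_sq (mul_mem hx hy)
  have h2 := inv_conj_mem_of_mem_normalizer (h.norm_E (h.R_le hy).1 (h.R_le hy).2)
    (inv_mem (h.R_sq hx))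
  have := mul_mem (mul_mem h1 h2) (inv_mem (h.R_sq hy))
  convert this using 1; group

theorem center_R [Finite G] (h : Pr Q Q' z s) :
    ((Q' ⊓ centralizer {z}) ⊔ (Q ⊓ centralizer {s})) ⊓
      centralizer (((Q' ⊓ centralizer {z}) ⊔ (Q ⊓ centralizer {s}) : Subgroup G) : Set G) =
      closure ({z, s} : Set G) := by
  refine le_antisymm (fun r hr => ?_) ((closure_le _).2 ?_)
  · rw [h.mem_V, h.comm.eq]
    exact ls_cent_P h.l h.hs h.r.zsq (h.R_le hr.1).1 fun p hp hsp =>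
      (hr.2 p (mem_sup_right ⟨hp, Inv.mem_centralizer_single.2 hsp.symm⟩)).symm
  · rintro _ (rfl | rfl)
    · exact ⟨mem_sup_right ⟨h.l.mem, Inv.mem_centralizer_single.2 h.comm⟩,
        fun r hr => (h.R_le hr).1⟩
    · exact ⟨mem_sup_left ⟨h.r.mem, Inv.mem_centralizer_single.2 h.comm.symm⟩,
        fun r hr => (h.R_le hr).2⟩

theorem induce [Finite G] (h : Pr Q Q' z s)
    (φ : closure ({z, s} : Set G) ≃* closure ({z, s} : Set G)) :
    ∃ g ∈ Q ⊔ Q', ∀ u : closure ({z, s} : Set G), g * u * g⁻¹ = φ u := by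
  obtain ⟨y, hy, hys⟩ := h.l.exists_conj h.hs h.r.ne h.ne
  have h'' := h.r.cj y
  rw [hys] at h''
  refine exists_induce (fun u hu => Inv.four_mul_self h.four hu) (fun u hu hu1 => ?_) φ
  have hle : ∀ R : Subgroup G, z ∈ R → s ∈ R → closure {z, s} ≤ R :=
    fun R h1 h2 => (closure_le _).2 (by rintro _ (rfl | rfl) <;> assumption)
  rcases h.mem_V.1 hu with e | e | e | e
  · exact (hu1 e).elim
  · exact ⟨Q, e ▸ h.l.toES, hle _ h.l.mem h.hs, le_sup_left⟩
  · exact ⟨_, e ▸ h.r.toES, hle _ h.hz h.r.mem, le_sup_right⟩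
  · rw [h.comm.eq] at e
    have h1 : z ∈ cj y Q' := by
      rw [← Inv.commute_iff_conj.1 (h.l.central y hy).symm]
      exact conj_mem_cj h.hz
    exact ⟨_, e ▸ h''.toES, hle _ h1 ((mul_mem_cancel_right h1).1 h''.mem),
      cj_le_of_mem (mem_sup_left hy) le_sup_right⟩

theorem main [Finite G] (h : Pr Q Q' z s) {X R : Subgroup G} (hX : X = Q ⊔ Q')
    (hR : R = (Q' ⊓ centralizer {z}) ⊔ (Q ⊓ centralizer {s})) :
    R = X ⊓ centralizer ((closure ({z, s} : Set G) : Subgroup G) : Set G) ∧ R = pCoreOf 2 X ∧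
      ∃ _ : (R.subgroupOf X).Normal, Nonempty (X ⧸ R.subgroupOf X ≃* Equiv.Perm (Fin 3)) := by
  haveI : Fact (Nat.Prime 2) := ⟨Nat.prime_two⟩
  have hXR : X ≤ normalizer (R : Set G) := fun x hx => by
    rw [hR]; exact (h.X_le_cmod (hX ▸ hx)).1
  have hRX : R ≤ X := by
    rw [hR, hX]; exact sup_le (inf_le_left.trans le_sup_right) (inf_le_left.trans le_sup_left)
  haveI hn : (R.subgroupOf X).Normal := normal_subgroupOf_of_le_normalizer hXR
  obtain ⟨y, hy, hys⟩ := h.l.exists_conj h.hs h.r.ne h.ne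
  obtain ⟨y', hy', hyz'⟩ := h.r.exists_conj h.hz h.l.ne h.ne.symm
  have hyz := Inv.commute_iff_conj.1 (h.l.central y hy).symm
  have hys' := Inv.commute_iff_conj.1 (h.r.central y' hy').symm
  obtain ⟨e1, e2⟩ := conj_swap h.l.zsq h.r.zsq h.comm hyz hys hyz' hys'
  have hQ : Q ≤ X := hX ▸ le_sup_left
  have hQ' : Q' ≤ X := hX ▸ le_sup_right
  let π := QuotientGroup.mk' (R.subgroupOf X)
  have hπ : ∀ x : X, π x = 1 ↔ (x : G) ∈ R := fun x => QuotientGroup.eq_one_iff x
  have hP : ∀ q ∈ Q, Commute q s → q ∈ R := fun q hq hc =>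
    hR ▸ mem_sup_right ⟨hq, Inv.mem_centralizer_single.2 hc⟩
  have hP' : ∀ q ∈ Q', Commute q z → q ∈ R := fun q hq hc =>
    hR ▸ mem_sup_left ⟨hq, Inv.mem_centralizer_single.2 hc⟩
  have hy1 := h.l.not_commute_of_conj hys
  have hy1' := h.r.not_commute_of_conj hyz'
  let Y : X := ⟨y, hQ hy⟩
  let Y' : X := ⟨y', hQ' hy'⟩
  have ha : π Y * π Y = 1 := by
    rw [← map_mul, hπ]
    exact hP _ (mul_mem hy hy) ((h.l.commute_mul_iff hy hy h.hs).2 Iff.rfl)
  have hb : π Y' * π Y' = 1 := by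
    rw [← map_mul, hπ]
    exact hP' _ (mul_mem hy' hy') ((h.r.commute_mul_iff hy' hy' h.hz).2 Iff.rfl)
  have hw : (y' * y * y') * y * (y' * y * y')⁻¹ ∈ Q' := h.tr _ e1 ▸ conj_mem_cj hy
  have hab : π Y' * π Y * π Y' = π Y * π Y' * π Y := by
    have h1 : π ((Y' * Y * Y') * Y * (Y' * Y * Y')⁻¹ * Y') = 1 := by
      rw [hπ]
      refine hP' _ (mul_mem hw hy') ((h.r.commute_mul_iff hw hy' h.hz).2 (iff_of_false ?_ hy1'))
      rw [commute_cj_iff, ← e2]
      simpa [mul_assoc] using hy1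
    simp only [map_mul, map_inv, mul_inv_rev, inv_eq_of_mul_eq_one_right ha,
      inv_eq_of_mul_eq_one_right hb] at h1
    generalize π Y = a at *
    generalize π Y' = b at *
    have h2 : (b * a * b) * (a * b * a) = 1 := by
      rw [← h1]; simp only [mul_assoc, hb, mul_one]
    rw [eq_inv_of_mul_eq_one_left h2]
    simp only [mul_inv_rev, inv_eq_of_mul_eq_one_right ha, inv_eq_of_mul_eq_one_right hb, mul_assoc]
  have hgen : ∀ x : X, π x ∈ closure {π Y, π Y'} := fun x => by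
    have : X ≤ ((closure {π Y, π Y'}).comap π).map X.subtype := by
      conv_lhs => rw [hX]
      refine sup_le (fun q hq => ⟨⟨q, hQ hq⟩, mem_comap.2 ?_, rfl⟩)
        fun q hq => ⟨⟨q, hQ' hq⟩, mem_comap.2 ?_, rfl⟩
      · by_cases hc : Commute q s
        · rw [(hπ ⟨q, hQ hq⟩).2 (hP q hq hc)]; exact one_mem _
        · have := (hπ (⟨q, hQ hq⟩ * Y)).2 (hP _ (mul_mem hq hy)
            ((h.l.commute_mul_iff hq hy h.hs).2 (iff_of_false hc hy1)))
          rw [map_mul] at this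
          rw [eq_inv_of_mul_eq_one_left this]; exact inv_mem (zV _ _)
      · by_cases hc : Commute q z
        · rw [(hπ ⟨q, hQ' hq⟩).2 (hP' q hq hc)]; exact one_mem _
        · have := (hπ (⟨q, hQ' hq⟩ * Y')).2 (hP' _ (mul_mem hq hy')
            ((h.r.commute_mul_iff hq hy' h.hz).2 (iff_of_false hc hy1')))
          rw [map_mul] at this
          rw [eq_inv_of_mul_eq_one_left this]; exact inv_mem (sV _ _)
    obtain ⟨x', hx', e⟩ := this x.2
    exact Subtype.ext e ▸ hx'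
  have hRC : ∀ r ∈ R, Commute r z ∧ Commute r s := fun r hr => h.R_le (hR ▸ hr)
  have cy := (h.l.central y hy).symm
  have cy' := (h.r.central y' hy').symm
  have hA : R = X ⊓ centralizer ((closure ({z, s} : Set G) : Subgroup G) : Set G) := by
    refine le_antisymm (fun r hr => ⟨hRX hr, mem_CV.2 (hRC r hr)⟩) fun x hx => ?_
    have hx' := mem_CV.1 hx.2
    have key : ∀ w : X, π ⟨x, hx.1⟩ = π w → Commute (w : G) z ∧ Commute (w : G) s := fun w e => by
      have := hRC _ ((hπ ((⟨x, hx.1⟩ : X)⁻¹ * w)).1 (by rw [map_mul, map_inv, e]; simp))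
      exact ⟨by simpa using hx'.1.mul_left this.1, by simpa using hx'.2.mul_left this.2⟩
    rcases six_cases ha hb hab (hgen ⟨x, hx.1⟩) with e | e | e | e | e | e
    · exact (hπ _).1 e
    · exact (hy1 (key _ e).2).elim
    · exact (hy1' (key _ e).1).elim
    · rw [← map_mul] at e
      exact (hy1 (by simpa [Y, Y'] using (key _ e).2.mul_left cy'.inv_left)).elim
    · rw [← map_mul] at e
      exact (hy1' (by simpa [Y, Y'] using (key _ e).1.mul_left cy.inv_left)).elim
    · rw [← map_mul, ← map_mul] at e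
      exact (hy1' (by
        simpa [mul_assoc, Y, Y'] using cy.inv_left.mul_left ((key _ e).1.mul_left cy.inv_left))).elim
  refine ⟨hA, le_antisymm (le_pCoreOf hRX hXR ?_) ?_, hn, ?_⟩
  · rw [hR]
    exact isPGroup_sup (h.r.isPGroup.to_le inf_le_left) (h.l.isPGroup.to_le inf_le_left)
      fun p hp => h.norm_P (h.symm.P_le hp).2 (h.symm.P_le hp).1
  · obtain ⟨u, hu, huc, hu2⟩ := exists_mem_inf_centralizer (isPGroup_pCoreOf X)
      (Inv.four_isPGroup h.four) ((pCoreOf_le X).trans (hX ▸ h.X_norm_V))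
      (fun e => h.l.ne (by have := zV z s; rwa [e, mem_bot] at this))
    have hN := le_normalizer_centralizer (le_normalizer_pCoreOf (p := 2) X)
    have hx := hN (mul_mem (mul_mem (hQ' hy') (hQ hy)) (hQ' hy'))
    have k1 : z ∈ centralizer (pCoreOf 2 X : Set G) ↔ s ∈ centralizer (pCoreOf 2 X : Set G) :=
      ⟨fun k => e1 ▸ conj_mem_of_mem_normalizer hx k, fun k => e2 ▸ conj_mem_of_mem_normalizer hx k⟩
    have k2 : z ∈ centralizer (pCoreOf 2 X : Set G) := by
      rcases h.mem_V.1 hu with e | e | e | e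
      · exact (Inv.ne_one_of_two hu2 e).elim
      · exact e ▸ huc
      · exact k1.2 (e ▸ huc)
      · have := inv_conj_mem_of_mem_normalizer (hN (hQ' hy')) huc
        rwa [e, ← hyz', show y'⁻¹ * (y' * z * y'⁻¹) * y' = z by group] at this
    rw [hA]
    exact fun o ho => ⟨pCoreOf_le X ho, mem_CV.2 ⟨k2 o ho, k1.1 k2 o ho⟩⟩
  · let φ := (closure ({z, s} : Set G)).normalizerMonoidHom.comp
      (inclusion (hX ▸ h.X_norm_V : X ≤ _))
    have hk : R.subgroupOf X = φ.ker := by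
      rw [hA, ← MonoidHom.comap_ker, normalizerMonoidHom_ker]
      ext x
      simp [mem_subgroupOf]
    have hs : Function.Surjective φ := fun ψ => by
      obtain ⟨g, hg, e⟩ := h.induce ψ
      exact ⟨⟨g, hX ▸ hg⟩, MulEquiv.ext fun u => Subtype.ext (e u)⟩
    have hc : Nat.card (X ⧸ R.subgroupOf X) = 6 := by
      rw [← card_mulAut_four h.four]
      exact Nat.card_congr ((QuotientGroup.quotientMulEquivOfEq hk).trans
        (QuotientGroup.quotientKerEquivOfSurjective φ hs)).toEquiv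
    have ha1 : π Y ≠ 1 := fun e => hy1 (hRC _ ((hπ _).1 e)).2
    refine PGrp.equiv_sym3 hc (S := zpowers (π Y))
      (by rw [Nat.card_zpowers, Inv.two_of_mul_self ha1 ha]) fun hN => ?_
    rcases (mem_zpowers_two ha).1 (hN.conj_mem _ (mem_zpowers _) (π Y')) with e | e
    · exact ha1 (conj_eq_one_iff.1 e)
    · rw [inv_eq_of_mul_eq_one_right hb] at e
      have e3 : π (Y * Y') = 1 := by
        rw [map_mul]
        exact mul_right_cancel (b := π Y) (by rw [← hab, e, one_mul])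
      exact hy1 (by simpa [Y, Y'] using (hRC _ ((hπ _).1 e3)).2.mul_left cy'.inv_left)

end Pr

end Cfsg.Agent.PLocal
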