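import Mathlib
import Cfsg.Agent.PLocal.LX1
import Cfsg.Agent.PGrp.Extra
import Cfsg.Agent.LocalEven.Amalgam

/-! Large extraspecial subgroups in holomorphs of elementary abelian 2-groups. -/

set_option autoImplicit false

namespace Cfsg.Agent.PLocal

open Cfsg Subgroup LocalEven Fischer
open scoped commutatorElement

variable {G : Type*} [Group G]

theorem exists_aut_of_fun [Finite G] {U : Subgroup G} (f : G → G) (hU : ∀ u ∈ U, f u ∈ U)
    (hmul : ∀ a ∈ U, ∀ b ∈ U, f (a * b) = f a * f b) (hinj : ∀ u ∈ U, f u = 1 → u = 1) :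
    ∃ φ : U ≃* U, ∀ u : U, (φ u : G) = f u := by
  let g : U →* U := MonoidHom.mk' (fun u => ⟨f u, hU u u.2⟩)
    fun a b => Subtype.ext (hmul a a.2 b b.2)
  have : Function.Injective g := (injective_iff_map_eq_one g).2 fun a e =>
    Subtype.ext (hinj a a.2 (congrArg Subtype.val e))
  exact ⟨MulEquiv.ofBijective g (Finite.injective_iff_bijective.1 this), fun _ => rfl⟩

theorem exists_hyp [Finite G] {U N : Subgroup G} (hU : IsElementaryAbelian 2 U) (hN : N ≤ U)
    {x : G} (hx : x ∈ U) (hxN : x ∉ N) : ∃ H : Subgroup G, N ≤ H ∧ H ≤ U ∧ x ∉ H ∧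
      (∀ a ∈ U, ∀ b ∈ U, a * b ∈ H ↔ (a ∈ H ↔ b ∈ H)) ∧ Nat.card H * 2 = Nat.card U := by
  haveI : Fact (Nat.Prime 2) := ⟨Nat.prime_two⟩
  haveI := hU.1
  obtain ⟨M, h1, h2, h3⟩ := PGrp.exists_coatom_notMem (isPGroup_of_elemAb hU)
    (N := N.subgroupOf U) (by rw [commutator_eq_bot]; exact bot_le)
    (fun y => by rw [show y ^ 2 = 1 from Subtype.ext (hU.2 y y.2)]; exact one_mem _)
    (x := ⟨x, hx⟩) hxN
  refine ⟨M.map U.subtype, fun n hn => ⟨⟨n, hN hn⟩, h1 hn, rfl⟩, map_subtype_le _,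
    fun e => h3 (mem_map_subtype.1 e), fun a ha b hb => ?_, by
      rw [card_map_subtype, ← h2, card_mul_index]⟩
  have := mul_mem_iff_of_index_two h2 (a := ⟨a, ha⟩) (b := ⟨b, hb⟩)
  rw [← mem_map_subtype, ← mem_map_subtype, ← mem_map_subtype] at this
  exact this

theorem mulAut_equiv_gl {V : Type*} [Group V] [Finite V] [IsMulCommutative V] {p : ℕ}
    [Fact p.Prime] (hV : ∀ v : V, v ^ p = 1) {n : ℕ} (hc : Nat.card V = p ^ n) :
    Nonempty (MulAut V ≃* GL (Fin n) (ZMod p)) := by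
  obtain ⟨m, ⟨e⟩⟩ := BG.RepGlue.exists_mulEquiv hV
  obtain rfl : m = n := Nat.pow_right_injective (Fact.out : p.Prime).two_le
    ((BG.RepGlue.card_of_mulEquiv e).symm.trans hc)
  refine ⟨MulEquiv.ofBijective (BG.RepGlue.autMatrix e).toHomUnits ⟨fun a b h => ?_, fun g => ?_⟩⟩
  · have h' : BG.RepGlue.autMatrix e a = BG.RepGlue.autMatrix e b := congrArg Units.val h
    refine MulEquiv.ext fun v => e.injective (Multiplicative.toAdd.injective ?_)
    rw [← BG.RepGlue.autMatrix_mulVec, ← BG.RepGlue.autMatrix_mulVec, h']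
  · let L := LinearMap.GeneralLinearGroup.generalLinearEquiv _ _ (Matrix.GeneralLinearGroup.toLin g)
    refine ⟨e.trans ((AddEquiv.toMultiplicative L.toAddEquiv).trans e.symm), Units.ext ?_⟩
    refine Matrix.ext_iff_mulVec.2 fun x => ?_
    have := BG.RepGlue.autMatrix_mulVec e
      (e.trans ((AddEquiv.toMultiplicative L.toAddEquiv).trans e.symm))
      (e.symm (Multiplicative.ofAdd x))
    simpa [L] using this

theorem hol_main [Finite G] {U M : Subgroup G} (hU : IsElementaryAbelian 2 U) {n : ℕ} (hn : 1 ≤ n)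
    (hc : Nat.card U = 2 ^ (n + 1)) (hMU : M ≤ normalizer (U : Set G))
    (hf : ∀ m ∈ M, (∀ u ∈ U, m * u * m⁻¹ = u) → m = 1)
    (hfull : ∀ φ : U ≃* U, ∃ m ∈ M, ∀ u : U, (φ u : G) = m * u * m⁻¹) {z : G} (hz : z ∈ U)
    (hz1 : z ≠ 1) (hC : ∀ g, Commute g z → ∃ u ∈ U, ∃ m ∈ M, u * m = g) {C Q : Subgroup G}
    (hCz : C = centralizer {z}) (hQ : Q = pCoreOf 2 C) :
    LS Q z ∧ Nat.card Q = 2 ^ (2 * n + 1) ∧ U ≤ Q ∧ IsLargeExtraspecial Q ∧
      ∃ K : Subgroup G, K ≤ C ∧ Q ⊓ K = ⊥ ∧ Q ⊔ K = C ∧ Nonempty (K ≃* GL (Fin n) (ZMod 2)) := by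
  classical
  haveI : Fact (Nat.Prime 2) := ⟨Nat.prime_two⟩
  have hsq : ∀ u ∈ U, u * u = 1 := fun u hu => by rw [← sq, hU.2 u hu]
  have hcm : ∀ a ∈ U, ∀ b ∈ U, a * b = b * a := fun a ha b hb => elemAb_le_centralizer hU hb a ha
  have hz2 := hsq z hz
  have hmC : ∀ g, g ∈ C ↔ Commute g z := fun g => hCz ▸ Inv.mem_centralizer_single
  have hUC : U ≤ C := fun u hu => (hmC u).2 (hcm u hu z hz)
  have hCU : C ≤ normalizer (U : Set G) := fun g hg => by
    obtain ⟨u, hu, m, hm, rfl⟩ := hC g ((hmC g).1 hg)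
    exact mul_mem (le_normalizer hu) (hMU hm)
  have hself : ∀ g, (∀ u ∈ U, g * u * g⁻¹ = u) → g ∈ U := fun g hg => by
    obtain ⟨u, hu, m, hm, rfl⟩ := hC g (Inv.commute_iff_conj.2 (hg z hz))
    rw [hf m hm fun w hw => ?_, mul_one]
    · exact hu
    calc m * w * m⁻¹ = u⁻¹ * (u * m * w * (u * m)⁻¹) * u := by group
      _ = w := by rw [hg w hw, mul_assoc, hcm w hw u hu]; group
  have htv : ∀ P : G → Prop, (∀ a ∈ U, ∀ b ∈ U, P (a * b) ↔ (P a ↔ P b)) → ∀ v ∈ U, P v →
      ∃ m ∈ M, ∀ w ∈ U, (P w → m * w * m⁻¹ = w) ∧ (¬ P w → m * w * m⁻¹ = w * v) := by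
    intro P hP v hv hPv
    obtain ⟨φ, hφ⟩ := exists_aut_of_fun (U := U) (fun w => if P w then w else w * v)
      (fun u hu => by split_ifs; exacts [hu, mul_mem hu hv]) (fun a ha b hb => by
        by_cases h1 : P a <;> by_cases h2 : P b <;> simp only [hP a ha b hb, h1, h2, iff_true,
          iff_false, if_true, if_false, not_true, not_false_iff]
        · rw [mul_assoc]
        · rw [mul_assoc, hcm b hb v hv, mul_assoc]
        · rw [mul_assoc, ← mul_assoc v, hcm v hv b hb, mul_assoc b, hsq v hv, mul_one])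
      (fun u hu e => by
        by_cases h1 : P u
        · simpa [h1] using e
        · simp only [h1, if_false] at e
          rw [eq_inv_of_mul_eq_one_left e, inv_eq_of_mul_eq_one_right (hsq v hv)] at h1
          exact (h1 hPv).elim)
    obtain ⟨m, hm, e⟩ := hfull φ
    refine ⟨m, hm, fun w hw => ?_⟩
    have := (e ⟨w, hw⟩).symm.trans (hφ ⟨w, hw⟩)
    exact ⟨fun h => by simpa [h] using this, fun h => by simpa [h] using this⟩
  have htv' : ∀ N ≤ U, ∀ x ∈ U, x ∉ N → ∀ v ∈ N, ∃ m ∈ M, (∀ w ∈ N, m * w * m⁻¹ = w) ∧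
      m * x * m⁻¹ = x * v ∧ ∀ w ∈ U, m * w * m⁻¹ = w ∨ m * w * m⁻¹ = w * v := by
    intro N hN x hx hxN v hv
    obtain ⟨H, h1, -, h3, h4, -⟩ := exists_hyp hU hN hx hxN
    obtain ⟨m, hm, e⟩ := htv (· ∈ H) h4 v (hN hv) (h1 hv)
    exact ⟨m, hm, fun w hw => (e w (hN hw)).1 (h1 hw), (e x hx).2 h3,
      fun w hw => (em (w ∈ H)).imp (e w hw).1 (e w hw).2⟩
  have hZU : zpowers z ≤ U := zpowers_le.2 hz
  have hCZ : C ≤ normalizer (zpowers z : Set G) := fun g hg => centralizer_le_normalizer _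
    fun a ha => (Inv.commute_of_mem_zpowers ((hmC g).1 hg).symm ha).eq
  set Q₀ := C ⊓ cmod (zpowers z) U with hQ₀
  have hm0 : ∀ x, x ∈ Q₀ ↔ Commute x z ∧ ∀ u ∈ U, x * u * x⁻¹ = u ∨ x * u * x⁻¹ = u * z := by
    intro x
    rw [hQ₀, mem_inf, hmC]
    refine and_congr_right fun hx => ⟨fun h u hu => ?_, fun h => ⟨hCZ ((hmC x).2 hx), fun u hu => ?_⟩⟩
    · rcases (mem_zpowers_two hz2).1 (h.2 u hu) with e | e
      · exact Or.inl (mul_inv_eq_one.1 e)
      · exact Or.inr (by rw [mul_inv_eq_iff_eq_mul.1 e, hcm z hz u hu])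
    · rcases h u hu with e | e <;> rw [e]
      · simp
      · rw [hcm u hu z hz]; simp
  have hUQ : U ≤ Q₀ := fun u hu => (hm0 u).2 ⟨hcm u hu z hz, fun w hw =>
    Or.inl (by rw [hcm u hu w hw]; simp)⟩
  have hnorm : ∀ g, Commute g z → ∀ x ∈ Q₀, g * x * g⁻¹ ∈ Q₀ := fun g hg x hx => by
    rw [hm0] at hx ⊢
    refine ⟨(hg.mul_left hx.1).mul_left hg.inv_left, fun u hu => ?_⟩
    have e : g * x * g⁻¹ * u * (g * x * g⁻¹)⁻¹ = g * (x * (g⁻¹ * u * g) * x⁻¹) * g⁻¹ := by group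
    rw [e]
    rcases hx.2 _ (inv_conj_mem_of_mem_normalizer (hCU ((hmC g).2 hg)) hu) with e | e <;> rw [e]
    · left; group
    · right; rw [← conj_mul, Inv.commute_iff_conj.1 hg]; group
  have hsq0 : ∀ x ∈ Q₀, x * x ∈ zpowers z := fun x hx => by
    obtain ⟨u, hu, a, ha, rfl⟩ := hC x ((hm0 x).1 hx).1
    have ha0 := (hm0 a).1 ((mul_mem_cancel_left (hUQ hu)).1 hx)
    have h1 : a * a = 1 := hf _ (mul_mem ha ha) fun w hw => by
      have e : a * a * w * (a * a)⁻¹ = a * (a * w * a⁻¹) * a⁻¹ := by group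
      rw [e]
      rcases ha0.2 w hw with e | e
      · rw [e, e]
      · rw [e, ← conj_mul, e, Inv.commute_iff_conj.1 ha0.1, mul_assoc, hz2, mul_one]
    have e : u * a * (u * a) = u * (a * u * a⁻¹) * (a * a) := by group
    rw [e, h1, mul_one]
    rcases ha0.2 u hu with e | e <;> rw [e]
    · rw [hsq u hu]; exact one_mem _
    · rw [← mul_assoc, hsq u hu, one_mul]; exact mem_zpowers z
  have hmove : ∀ x ∈ U, x ∉ zpowers z → ∃ m ∈ Q₀, ¬ Commute m x := fun x hx hxz => by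
    obtain ⟨m, -, h1, h2, h3⟩ := htv' _ hZU x hx hxz z (mem_zpowers z)
    refine ⟨m, (hm0 m).2 ⟨Inv.commute_iff_conj.2 (h1 z (mem_zpowers z)), h3⟩, fun e => hz1 ?_⟩
    rw [Inv.commute_iff_conj.1 e] at h2
    simpa using h2
  have hcZ : Nat.card (zpowers z) = 2 := by rw [Nat.card_zpowers, Inv.two_of_mul_self hz1 hz2]
  obtain ⟨x₀, hx₀, hx₀z⟩ : ∃ x ∈ U, x ∉ zpowers z := by
    refine SetLike.not_le_iff_exists.1 fun e => ?_
    have := card_le_of_le e
    rw [hc, hcZ, pow_succ] at this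
    have := Nat.one_lt_two_pow (n := n) (by omega)
    omega
  have hES : ES Q₀ z := by
    refine ⟨hUQ hz, hz1, hz2, fun x hx => ((hm0 x).1 hx).1.symm, fun x hx y hy => ?_,
      fun x hx => (mem_zpowers_two hz2).1 (hsq0 x hx), fun x hx h => ?_, ?_⟩
    · have := mul_mem (mul_mem (hsq0 _ (mul_mem hx hy)) (inv_conj_mem_of_mem_normalizer
        (hCZ hy.1) (inv_mem (hsq0 x hx)))) (inv_mem (hsq0 y hy))
      rw [show x * y * (x * y) * (y⁻¹ * (x * x)⁻¹ * y) * (y * y)⁻¹ = x * y * x⁻¹ * y⁻¹ by group,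
        mem_zpowers_two hz2] at this
      exact this.imp mul_inv_eq_one.1 fun e => by
        rw [mul_inv_eq_iff_eq_mul.1 e, ((hm0 y).1 hy).1.eq]
    · by_contra hcon
      rw [← mem_zpowers_two hz2] at hcon
      obtain ⟨m, hm, e⟩ := hmove x (hself x fun u hu => Inv.commute_iff_conj.1 (h u (hUQ hu))) hcon
      exact e (h m hm).symm
    · obtain ⟨m, hm, e⟩ := hmove x₀ hx₀ hx₀z
      exact ⟨m, hm, x₀, hUQ hx₀, e⟩
  have hLS : LS Q₀ z :=
    ⟨hES, fun g hg => hUQ (hself g fun u hu => Inv.commute_iff_conj.1 (hg u (hUQ hu))), hnorm⟩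
  have hQQ : Q = Q₀ := by
    have h1 : Q₀ ≤ Q := by rw [hQ, hCz]; exact hLS.le_pCoreOf
    have hQC : Q ≤ C := hQ ▸ pCoreOf_le C
    have hCQ : C ≤ normalizer (Q : Set G) := hQ ▸ le_normalizer_pCoreOf C
    have hD : ⁅U, Q⁆ ≤ U := Core.commutator_le_of_le_normalizer (hQC.trans hCU)
    refine le_antisymm (fun o ho => ⟨hQC ho, hCZ (hQC ho), fun u hu => ?_⟩) h1
    suffices h : ⁅U, Q⁆ ≤ zpowers z by
      have := inv_mem (h (commutator_mem_commutator hu ho))
      simpa [commutatorElement_def, mul_assoc] using this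
    intro y hy
    by_contra hyz
    refine hx₀z (le_of_le_sup_commutator (P := Q) (Q := Q) (hQ ▸ isPGroup_pCoreOf C) (hUQ.trans h1)
      le_rfl (hZU.trans (hUQ.trans h1)) (hQC.trans hCZ) (fun v hv => ?_) hx₀)
    by_cases hyv : y ∈ zpowers z ⊔ zpowers v
    · obtain ⟨a, ha, b, hb, rfl⟩ := (mem_sup_iff_of_le_normalizer' (zpowers_le.2
        (hCZ (hUC hv)))).1 hyv
      rcases (mem_zpowers_two (hsq v hv)).1 hb with rfl | rfl
      · exact (hyz (by simpa using ha)).elim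
      · exact (mul_mem_cancel_left (mem_sup_left ha)).1 (mem_sup_right hy)
    · obtain ⟨m, -, h2, h3, -⟩ := htv' _ (sup_le hZU (zpowers_le.2 hv)) y (hD hy) hyv v
        (mem_sup_right (mem_zpowers v))
      have hm : m ∈ C := (hmC m).2 (Inv.commute_iff_conj.2 (h2 z (mem_sup_left (mem_zpowers z))))
      have := conj_mem_of_mem_normalizer (le_normalizer_commutator hCU hCQ hm) hy
      rw [h3] at this
      exact mem_sup_right ((mul_mem_cancel_left hy).1 this)
  rw [hQQ]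
  have hcomm : ⁅Q₀, U⁆ ≤ zpowers z := commutator_le.2 fun x hx u hu => hx.2.2 u hu
  refine ⟨hLS, ?_, hUQ, ?_, ?_⟩
  · have h1 := PGrp.relIndex_centralizer_le_relIndex (H := Q₀) (Z := zpowers z) hcZ.le
      (inf_le_left.trans fun g hg a ha => (Inv.commute_of_mem_zpowers ((hmC g).1 hg).symm ha).eq)
      _ U (isPGroup_of_elemAb hU) hZU hcomm rfl
    have h2 := PGrp.relIndex_centralizer_le_relIndex (H := U) (Z := U) hcZ.le
      (elemAb_le_centralizer hU) _ Q₀ hES.isPGroup hUQ (commutator_comm U Q₀ ▸ hcomm) rfl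
    have h3 : (centralizer (U : Set G)).relIndex Q₀ = U.relIndex Q₀ := by
      rw [le_antisymm (fun g hg => hself g fun u hu => Inv.commute_iff_conj.1 (hg u hu).symm)
        (elemAb_le_centralizer hU)]
    rw [hLS.centralizer_eq] at h2
    rw [h3] at h1
    have h4 := card_mul_relIndex hZU
    have h5 := card_mul_relIndex hUQ
    rw [le_antisymm h1 h2, hc] at h5
    rw [hcZ, hc, pow_succ, mul_comm] at h4
    rw [← h5, Nat.eq_of_mul_eq_mul_right two_pos h4]; ring
  · refine hLS.large_of_invol (hUQ hx₀) (fun e => hx₀z (e ▸ one_mem _))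
      (fun e => hx₀z (e ▸ mem_zpowers _)) (hsq _ hx₀) ?_
    obtain ⟨m, -, -, h2, -⟩ := htv' (zpowers (z * x₀)) (zpowers_le.2 (mul_mem hz hx₀)) z hz (by
      rw [mem_zpowers_two (hsq _ (mul_mem hz hx₀))]
      rintro (e | e)
      · exact hz1 e
      · exact hx₀z (by rw [left_eq_mul.1 e]; exact one_mem _)) _ (mem_zpowers _)
    rw [← mul_assoc, hz2, one_mul] at h2
    have := (hLS.cj m).le_pCoreOf (hLS.symm (g := m) (h2 ▸ hUQ hx₀))
    rwa [h2] at this
  obtain ⟨W, -, hWU, hzW, hW, hWc⟩ := exists_hyp hU bot_le hz (by simpa using hz1)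
  have hWz : ∀ u ∈ U, u ∉ W → u * z ∈ W := fun u hu h => (hW u hu z hz).2 (iff_of_false h hzW)
  have hfixW : ∀ g, Commute g z → (∀ w ∈ W, g * w * g⁻¹ = w) → ∀ u ∈ U, g * u * g⁻¹ = u := by
    intro g hg h u hu
    by_cases e : u ∈ W
    · exact h u e
    · have := h _ (hWz u hu e)
      rw [← conj_mul, Inv.commute_iff_conj.1 hg] at this
      exact mul_right_cancel this
  refine ⟨M ⊓ C ⊓ normalizer (W : Set G), inf_le_left.trans inf_le_right,
    eq_bot_iff.2 fun k hk => ?_, le_antisymm (sup_le inf_le_left (inf_le_left.trans inf_le_right))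
    fun c hc => ?_, ?_⟩
  · refine hf k hk.2.1.1 (hfixW k ((hmC k).1 hk.1.1) fun w hw => ?_)
    refine (((hm0 k).1 hk.1).2 w (hWU hw)).resolve_right fun e => hzW ?_
    exact (mul_mem_cancel_left hw).1 (e ▸ conj_mem_of_mem_normalizer hk.2.2 hw)
  · obtain ⟨u, hu, m, hm, rfl⟩ := hC c ((hmC c).1 hc)
    have hmc : m ∈ C := (mul_mem_cancel_left (hUC hu)).1 hc
    have hW' : ∀ a ∈ U, ∀ b ∈ U, a * b ∈ cj m W ↔ (a ∈ cj m W ↔ b ∈ cj m W) := fun a ha b hb => by
      simp only [mem_cj]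
      rw [← hW _ (inv_conj_mem_of_mem_normalizer (hMU hm) ha) _
        (inv_conj_mem_of_mem_normalizer (hMU hm) hb)]
      simp [mul_assoc]
    have hzW' : z ∉ cj m W := by
      rw [← Inv.commute_iff_conj.1 ((hmC m).1 hmc), conj_mem_cj_iff]; exact hzW
    obtain ⟨t, ht, e⟩ := htv (fun w => w ∈ W ↔ w ∈ cj m W) (fun a ha b hb => by
      rw [hW a ha b hb, hW' a ha b hb]; tauto) z hz (iff_of_false hzW hzW')
    have htz : Commute t z := Inv.commute_iff_conj.2 ((e z hz).1 (iff_of_false hzW hzW'))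
    have htQ : t ∈ Q₀ := (hm0 t).2 ⟨htz, fun w hw => (em _).imp (e w hw).1 (e w hw).2⟩
    rw [show u * m = u * t⁻¹ * (t * m) by group]
    refine mul_mem (mem_sup_left (mul_mem (hUQ hu) (inv_mem htQ))) (mem_sup_right
      ⟨⟨mul_mem ht hm, mul_mem htQ.1 hmc⟩, mem_normalizer_fintype fun w hw => ?_⟩)
    have h1 : m * w * m⁻¹ ∈ cj m W := conj_mem_cj hw
    have h2 := conj_mem_of_mem_normalizer (hMU hm) (hWU hw)
    rw [show t * m * w * (t * m)⁻¹ = t * (m * w * m⁻¹) * t⁻¹ by group]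
    by_cases h3 : m * w * m⁻¹ ∈ W
    · rw [(e _ h2).1 (iff_of_true h3 h1)]; exact h3
    · rw [(e _ h2).2 (by tauto)]; exact hWz _ h2 h3
  · let ψ := W.normalizerMonoidHom.comp
      (inclusion (inf_le_right : M ⊓ C ⊓ normalizer (W : Set G) ≤ _))
    have hWe := elemAb_of_le hU hWU
    haveI := hWe.1
    obtain ⟨e⟩ := mulAut_equiv_gl (V := W) (p := 2) (fun v => Subtype.ext (hWe.2 v v.2)) (n := n)
      (Nat.eq_of_mul_eq_mul_right two_pos (by rw [hWc, hc, pow_succ]))
    refine ⟨(MulEquiv.ofBijective ψ ⟨(injective_iff_map_eq_one _).2 fun k hk => Subtype.ext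
      (hf k k.2.1.1 (hfixW k ((hmC k).1 k.2.1.2) fun w hw =>
        congrArg (fun β : MulAut W => (β ⟨w, hw⟩ : G)) hk)), fun α => ?_⟩).trans e⟩
    let a : G → G := fun w => if h : w ∈ W then α ⟨w, h⟩ else 1
    have ha : ∀ w : W, a w = α w := fun w => dif_pos w.2
    have haW : ∀ w, a w ∈ W := fun w => by
      by_cases h : w ∈ W
      · rw [ha ⟨w, h⟩]; exact (α _).2
      · simp [a, h]
    have hamul : ∀ v ∈ W, ∀ w ∈ W, a (v * w) = a v * a w := fun v hv w hw => by
      rw [ha ⟨v, hv⟩, ha ⟨w, hw⟩, ← coe_mul, ← map_mul]; exact ha (⟨v, hv⟩ * ⟨w, hw⟩)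
    have hzz : ∀ x y : G, y ∈ U → x * z * (y * z) = x * y := fun x y hy => by
      rw [mul_assoc, ← mul_assoc z, hcm z hz y hy, mul_assoc y, hz2, mul_one]
    obtain ⟨φ, hφ⟩ := exists_aut_of_fun (U := U) (fun w => if w ∈ W then a w else a (w * z) * z)
      (fun u hu => by split_ifs; exacts [hWU (haW _), mul_mem (hWU (haW _)) hz])
      (fun v hv w hw => by
        by_cases h1 : v ∈ W <;> by_cases h2 : w ∈ W <;> simp only [hW v hv w hw, h1, h2, iff_true,
          iff_false, if_true, if_false, not_true, not_false_iff]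
        · exact hamul v h1 w h2
        · rw [mul_assoc v, hamul v h1 _ (hWz w hw h2), mul_assoc]
        · rw [mul_assoc v, hcm w hw z hz, ← mul_assoc, hamul _ (hWz v hv h1) w h2, mul_assoc,
            mul_assoc, hcm z hz _ (hWU (haW w))]
        · rw [hzz _ _ (hWU (haW _)), ← hamul _ (hWz v hv h1) _ (hWz w hw h2), hzz _ _ hw])
      (fun u hu e => by
        by_cases h1 : u ∈ W
        · simp only [h1, if_true] at e
          rw [ha ⟨u, h1⟩] at e
          simpa using e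
        · simp only [h1, if_false] at e
          exact (hzW ((mul_mem_cancel_left (haW _)).1 (e ▸ one_mem W))).elim)
    obtain ⟨m, hm, e⟩ := hfull φ
    have h1 : ∀ w : W, m * w * m⁻¹ = α w := fun w => by
      rw [← e ⟨w, hWU w.2⟩, hφ, ← ha]; simp
    have h2 : m * z * m⁻¹ = z := by
      rw [← e ⟨z, hz⟩, hφ]
      simp only [hzW, if_false, hz2]
      rw [ha ⟨1, one_mem W⟩, show (⟨1, one_mem W⟩ : W) = 1 from rfl, map_one]; simp
    exact ⟨⟨m, ⟨hm, (hmC m).2 (Inv.commute_iff_conj.2 h2)⟩, mem_normalizer_fintype fun w hw =>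
      h1 ⟨w, hw⟩ ▸ (α _).2⟩, MulEquiv.ext fun w => Subtype.ext (h1 w)⟩

theorem two_cases {F : Type*} [Field F] [Finite F] (hF : Nat.card F = 2) (c : F) :
    c = 0 ∨ c = 1 := by
  obtain ⟨y, -, hy⟩ := (Nat.card_eq_two_iff' (0 : F)).1 hF
  exact (eq_or_ne c 0).imp_right fun h => (hy c h).trans (hy 1 one_ne_zero).symm

theorem lin_main [Finite G] {F V : Type*} [Field F] [Finite F] (hF : Nat.card F = 2)
    [AddCommGroup V] [Module F V] [Finite V] (ρ : G ≃* (V ≃ₗ[F] V)) (f : V →ₗ[F] F) {e₀ e₁ : V}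
    (h0 : f e₀ = 0) (h0' : e₀ ≠ 0) (h1 : f e₁ = 1) {n : ℕ} (hn : 1 ≤ n)
    (hV : Nat.card V = 2 ^ (n + 2)) {z : G} (hz : ∀ x, ρ z x = x + f x • e₀) {C Q : Subgroup G}
    (hCz : C = centralizer {z}) (hQ : Q = pCoreOf 2 C) :
    LS Q z ∧ Nat.card Q = 2 ^ (2 * n + 1) ∧
      (∃ U ≤ Q, IsElementaryAbelian 2 U ∧ Nat.card U = 2 ^ (n + 1)) ∧ IsLargeExtraspecial Q ∧
      ∃ K : Subgroup G, K ≤ C ∧ Q ⊓ K = ⊥ ∧ Q ⊔ K = C ∧ Nonempty (K ≃* GL (Fin n) (ZMod 2)) := by
  have h2 := two_cases hF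
  have h11 : (1 : F) + 1 = 0 := (h2 _).resolve_right (by simp)
  have hvv : ∀ v : V, v + v = 0 := fun v => by rw [← one_smul F v, ← add_smul, h11, zero_smul]
  let θ : Multiplicative (LinearMap.ker f) →* G := MonoidHom.mk'
    (fun h => ρ.symm (LinearEquiv.transvection (f := f) (v := h.toAdd.1) (LinearMap.mem_ker.1 h.toAdd.2))) fun a b => by
      rw [← map_mul]
      congr 1
      ext x
      have hb : f b.toAdd.1 = 0 := b.toAdd.2
      simp only [LinearEquiv.mul_apply, LinearEquiv.transvection.apply, toAdd_mul, Submodule.coe_add,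
        map_add, map_smul, hb, smul_zero, add_zero, smul_add, zero_smul]
      abel
  have hθ : ∀ h x, ρ (θ h) x = x + f x • h.toAdd.1 := fun h x => by
    simp only [θ, MonoidHom.mk'_apply, MulEquiv.apply_symm_apply, LinearEquiv.transvection.apply]
  have hext : ∀ a b : G, (∀ x, ρ a x = ρ b x) → a = b := fun a b h =>
    ρ.injective (LinearEquiv.ext h)
  have hinj : Function.Injective θ := fun a b e => by
    have := (hθ a e₁).symm.trans (e ▸ hθ b e₁)
    rw [h1, one_smul, one_smul, add_right_inj] at this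
    exact Multiplicative.toAdd.injective (Subtype.ext this)
  let M : Subgroup G :=
    { carrier := {g | ρ g e₁ = e₁ ∧ ∀ x, f (ρ g x) = f x}
      one_mem' := by simp
      mul_mem' := fun {a b} ha hb => ⟨by simp [ha.1, hb.1], fun x => by simp [ha.2, hb.2]⟩
      inv_mem' := fun {a} ha => ⟨by
        rw [map_inv, LinearEquiv.coe_inv, LinearEquiv.symm_apply_eq, ha.1], fun x => by
        rw [← ha.2, map_inv, LinearEquiv.coe_inv, LinearEquiv.apply_symm_apply]⟩ }
  have hconj : ∀ g, ∀ hg : ∀ x, f (ρ g x) = f x, ∀ h : Multiplicative (LinearMap.ker f),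
      g * θ h * g⁻¹ = θ (Multiplicative.ofAdd ⟨ρ g h.toAdd.1, (hg _).trans h.toAdd.2⟩) := by
    intro g hg h
    rw [mul_inv_eq_iff_eq_mul]
    refine hext _ _ fun x => ?_
    simp [hθ, hg]
  have hzθ : θ (Multiplicative.ofAdd ⟨e₀, h0⟩) = z := hext _ _ fun x => by rw [hθ, hz]; rfl
  have hsplit : ∀ x, f (x + f x • e₁) = 0 := fun x => by
    rw [map_add, map_smul, h1, smul_eq_mul, mul_one, ← one_mul (f x), ← add_mul, h11, zero_mul]
  have hU : IsElementaryAbelian 2 θ.range := by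
    rw [MonoidHom.range_eq_map]
    exact elemAb_map ⟨inferInstance, fun a _ => Multiplicative.toAdd.injective (Subtype.ext (by
      simpa [two_smul] using hvv a.toAdd.1))⟩ θ
  have hc : Nat.card θ.range = 2 ^ (n + 1) := by
    have e1 := Submodule.card_eq_card_quotient_mul_card (LinearMap.ker f)
    have e2 := Nat.card_congr (f.quotKerEquivOfSurjective fun c =>
      ⟨c • e₁, by simp [h1]⟩).toEquiv
    rw [← Nat.card_congr (MonoidHom.ofInjective hinj).toEquiv, Nat.card_congr Multiplicative.toAdd]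
    rw [e2, hF, hV, pow_succ] at e1
    exact (Nat.eq_of_mul_eq_mul_right two_pos e1).symm
  refine And.imp_right (And.imp_right (And.imp_left fun k => ⟨_, k, hU, hc⟩)) (hol_main (M := M) hU hn hc
    (fun m hm => mem_normalizer_fintype (by
      rintro _ ⟨h, rfl⟩; rw [hconj m hm.2]; exact ⟨_, rfl⟩))
    (fun m hm h => hext _ _ fun x => by
      have := hinj ((hconj m hm.2 (Multiplicative.ofAdd ⟨_, hsplit x⟩)).symm.trans (h _ ⟨_, rfl⟩))
      have e : ρ m (x + f x • e₁) = x + f x • e₁ := congrArg (fun t => t.toAdd.1) this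
      simpa [hm.1] using e)
    (fun φ => ?_) (z := z) ⟨_, hzθ⟩
    (fun e => h0' (congrArg (fun t => t.toAdd.1) (hinj (hzθ.trans (e.trans (map_one θ).symm)))))
    (fun g hg => ?_) hCz hQ)
  · let e := MonoidHom.ofInjective hinj
    let ψ := (e.trans φ).trans e.symm
    let a : LinearMap.ker f → V := fun h => (ψ (Multiplicative.ofAdd h)).toAdd.1
    have ha : ∀ u v, a (u + v) = a u + a v := fun u v => by simp [a, ofAdd_add]
    have ha0 : a 0 = 0 := by simp [a]
    have hfa : ∀ u, f (a u) = 0 := fun u => (ψ (Multiplicative.ofAdd u)).toAdd.2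
    let L : V →ₗ[F] V :=
      { toFun := fun x => a ⟨_, hsplit x⟩ + f x • e₁
        map_add' := fun x y => by
          rw [show (⟨_, hsplit (x + y)⟩ : LinearMap.ker f) = ⟨_, hsplit x⟩ + ⟨_, hsplit y⟩ from
            Subtype.ext (by simp [add_smul]; abel), ha, map_add, add_smul]
          abel
        map_smul' := fun c x => by
          rcases h2 c with rfl | rfl
          · rw [show (⟨_, hsplit ((0 : F) • x)⟩ : LinearMap.ker f) = 0 from
              Subtype.ext (by simp), ha0]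
            simp
          · simp }
    have hL : ∀ x, L x = a ⟨_, hsplit x⟩ + f x • e₁ := fun x => rfl
    have hfL : ∀ x, f (L x) = f x := fun x => by simp [hL, hfa, h1]
    have hLi : Function.Injective L := (injective_iff_map_eq_zero L).2 fun x hx => by
      have h3 : f x = 0 := by rw [← hfL, hx, map_zero]
      rw [hL] at hx
      replace hx : a ⟨_, hsplit x⟩ = 0 := by
        rw [← hx, left_eq_add, h3, zero_smul]
      have h4 : ψ (Multiplicative.ofAdd ⟨_, hsplit x⟩) = 1 :=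
        Multiplicative.toAdd.injective (Subtype.ext hx)
      have := congrArg (fun t => t.toAdd.1) ((map_eq_one_iff ψ ψ.injective).1 h4)
      simpa [h3] using this
    let m := ρ.symm (LinearEquiv.ofBijective L (Finite.injective_iff_bijective.1 hLi))
    have hm : ∀ x, ρ m x = L x := fun x => by simp [m]
    have hm2 : ∀ x, f (ρ m x) = f x := fun x => by rw [hm, hfL]
    refine ⟨m, ⟨?_, hm2⟩, fun u => ?_⟩
    · rw [hm, hL, show (⟨_, hsplit e₁⟩ : LinearMap.ker f) = 0 from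
        Subtype.ext (by simp [h1, hvv]), ha0, h1]
      simp
    · obtain ⟨h, rfl⟩ := e.surjective u
      have h3 : f h.toAdd.1 = 0 := h.toAdd.2
      rw [show ((e h : θ.range) : G) = θ h from rfl, hconj m hm2,
        show φ (e h) = e (ψ h) by simp [ψ], show ((e (ψ h) : θ.range) : G) = θ (ψ h) from rfl]
      congr 1
      refine Multiplicative.toAdd.injective (Subtype.ext ?_)
      simp [hm, hL, h3, a]
  · have h3 : ∀ x, f (ρ g x) = f x := fun x => by
      have e : ρ (g * z) x = ρ (z * g) x := by rw [hg.eq]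
      have e' : ρ (g * z) e₁ = ρ (z * g) e₁ := by rw [hg.eq]
      simp only [map_mul, LinearEquiv.mul_apply, hz, map_add, map_smul, add_right_inj, h1,
        one_smul] at e e'
      have h4 : f (ρ g e₁) = 1 := (h2 _).resolve_left fun h => h0' (by simpa [h] using e')
      rw [e', h4, one_smul] at e
      exact (smul_left_injective F h0' e).symm
    have h4 : f (ρ g e₁ + e₁) = 0 := by rw [map_add, h3, h1, h11]
    refine ⟨_, ⟨Multiplicative.ofAdd ⟨_, h4⟩, rfl⟩, (θ (Multiplicative.ofAdd ⟨_, h4⟩))⁻¹ * g,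
      ⟨?_, fun x => ?_⟩, by group⟩
    · rw [map_mul, LinearEquiv.mul_apply, map_inv, LinearEquiv.coe_inv, LinearEquiv.symm_apply_eq,
        hθ, h1, one_smul, toAdd_ofAdd, add_comm, add_assoc, hvv, add_zero]
    · rw [← map_inv, map_mul, LinearEquiv.mul_apply, hθ, map_add, map_smul, h3]
      have : f ((Multiplicative.ofAdd (⟨_, h4⟩ : LinearMap.ker f))⁻¹).toAdd.1 = 0 :=
        LinearMap.mem_ker.1 (Subtype.prop _)
      rw [this]; simp

theorem sl_main {F : Type*} [Field F] [Fintype F] [DecidableEq F] (hF : Fintype.card F = 2)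
    {m n : ℕ} (hn : 1 ≤ n) (hm : m = n + 2) {i j : Fin m} (hij : i ≠ j)
    {z : Matrix.SpecialLinearGroup (Fin m) F}
    (hz : (z : Matrix (Fin m) (Fin m) F) = Matrix.transvection i j 1)
    {C Q : Subgroup (Matrix.SpecialLinearGroup (Fin m) F)}
    (hCz : C = centralizer {z}) (hQ : Q = pCoreOf 2 C) :
    LS Q z ∧ Nat.card Q = 2 ^ (2 * n + 1) ∧
      (∃ U ≤ Q, IsElementaryAbelian 2 U ∧ Nat.card U = 2 ^ (n + 1)) ∧ IsLargeExtraspecial Q ∧
      ∃ K, K ≤ C ∧ Q ⊓ K = ⊥ ∧ Q ⊔ K = C ∧ Nonempty (K ≃* GL (Fin n) (ZMod 2)) := by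
  have hF' : Nat.card F = 2 := by rw [Nat.card_eq_fintype_card, hF]
  have hs : Function.Surjective (Matrix.SpecialLinearGroup.toLin' (n := Fin m) (R := F)) := fun L =>
    ⟨⟨LinearMap.toMatrix' (L : (Fin m → F) →ₗ[F] (Fin m → F)), (two_cases hF' _).resolve_left (by
      rw [LinearMap.det_toMatrix']; exact L.isUnit_det'.ne_zero)⟩, LinearEquiv.ext fun x =>
        DFunLike.congr_fun (Matrix.toLin'_toMatrix' (L : (Fin m → F) →ₗ[F] (Fin m → F))) x⟩
  refine lin_main hF' (MulEquiv.ofBijective _ ⟨Matrix.SpecialLinearGroup.toLin'_injective, hs⟩)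
    (LinearMap.proj j) (e₀ := Pi.single i 1) (e₁ := Pi.single j 1) (by simp [hij.symm]) (by simp)
    (by simp) hn (by simp [hF, hm]) (fun x => ?_) hCz hQ
  show Matrix.toLin' (z : Matrix (Fin m) (Fin m) F) x = _
  rw [hz]
  ext k
  simp [Matrix.transvection, Matrix.add_mulVec, Matrix.single_mulVec, Pi.single_apply,
    Function.update_apply]

end Cfsg.Agent.PLocal
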