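import Mathlib
import Cfsg.Agent.PLocal.Tri9
import Cfsg.Agent.PLocal.FF7
import Cfsg.Agent.Inv.Dihedral
import Cfsg.Agent.Classical.SmallRecog
import Cfsg.Agent.LocalEven.PSolv

/-! Sims' theorem on primitive groups with a suborbit of length three. -/

set_option autoImplicit false

namespace Cfsg.Agent.PLocal

open Subgroup MulAction LocalEven

variable {G : Type*} [Group G]

theorem Tri.struct_not_ch {V : Type*} [MulAction G V] {Γ : Tri G V} {a b : V} (h : Γ.adj a b)
    (ha : ¬ Γ.Ch a) (hb : ¬ Γ.Ch b) : Nonempty (stabilizer G a ≃* Equiv.Perm (Fin 3)) ∨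
      Nonempty (stabilizer G a ≃* DihedralGroup 6) := by
  have k0 : ∀ g : G, g • a = a → g • b = b → ∀ x ∈ Γ.Q b ⊓ Γ.Q a, g * x * g⁻¹ ∈ Γ.Q b ⊓ Γ.Q a :=
    fun g g1 g2 x hx => ⟨Tri.Q_conj_fix g2 hx.1, Tri.Q_conj_fix g1 hx.2⟩
  have k1 : Γ.Q b ⊓ Γ.Q a = ⊥ := Γ.faith h _ (fun x hx => hx.2.1) (fun x hx => hx.1.1)
    (Tri.D_eq_bot_of_not_ch (Γ.symm h) ha inf_le_right fun g g1 g2 => k0 g g2 g1)
    (Tri.D_eq_bot_of_not_ch h hb inf_le_left k0)
  have c1 := Tri.card_le_inf_Q (Γ.symm h) (Tri.Q_le_adj h) (Tri.Q_le a)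
  have c2 := Tri.card_edge h
  have c3 := Tri.card_stab h
  have := Γ.fin a
  rw [k1, card_bot] at c1
  by_cases e : Γ.Q a = ⊥
  · rw [e, card_bot] at c2
    refine Or.inl (Classical.SmallRecog.equiv_perm_of_core
      ((stabilizer G a ⊓ stabilizer G b).subgroupOf _) ?_ (by norm_num) ?_ (by rw [c3, c2]; rfl))
    · have := card_mul_relIndex (inf_le_left : stabilizer G a ⊓ stabilizer G b ≤ _)
      rw [c3, c2] at this
      change relIndex _ _ = 3
      omega
    · refine (eq_bot_iff_forall _).2 fun x hx => Subtype.ext (mem_bot.1 (e ▸ ⟨x.2, fun c hc => ?_⟩))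
      obtain ⟨g, g1, rfl⟩ := Tri.exists_smul_eq h hc
      have : (g⁻¹ * x * g⁻¹⁻¹) • b = b := (hx ⟨g, g1⟩⁻¹).2
      rwa [inv_inv, mul_smul, mul_smul, inv_smul_eq_iff] at this
  have := Γ.finite_of_le (Tri.Q_le (Γ := Γ) a)
  have c4 : Nat.card (Γ.Q a) = 2 := by
    have := one_lt_card_iff_ne_bot _ |>.2 e
    omega
  have two : ∀ c, ∃ z ∈ Γ.Q c, z ≠ 1 ∧ ∀ y ∈ Γ.Q c, y ≠ 1 → y = z := fun c => by
    obtain ⟨z, z1, z2⟩ := (Nat.card_eq_two_iff' (1 : Γ.Q c)).1 ((Tri.card_Q_eq_card_Q c a).trans c4)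
    exact ⟨z, z.2, fun e => z1 (Subtype.ext e), fun y hy e =>
      congrArg Subtype.val (z2 ⟨y, hy⟩ fun e' => e (congrArg Subtype.val e'))⟩
  obtain ⟨z, z1, z2, z3⟩ := two a
  obtain ⟨s, s1, s2, s3⟩ := two b
  have zz : z * z = 1 := by
    by_contra e
    exact z2 (left_eq_mul.1 (z3 _ (mul_mem z1 z1) e).symm)
  have ss : s * s = 1 := by
    by_contra e
    exact s2 (left_eq_mul.1 (s3 _ (mul_mem s1 s1) e).symm)
  have zc : ∀ g : G, g • a = a → g * z = z * g := fun g hg =>
    mul_inv_eq_iff_eq_mul.1 (z3 _ (Tri.Q_conj_fix hg z1) (by simpa using z2))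
  have s4 : s ∉ Γ.Q a := fun e => s2 (mem_bot.1 (k1 ▸ ⟨s1, e⟩))
  have s5 := s1.2 a (Γ.symm h)
  obtain ⟨t, -, t1, t2, t3⟩ := Tri.exists_three (N := ⊤) (fun _ _ _ _ => trivial) trivial s5 s4
  have t4 : t ≠ 1 := fun e => t3 b h (by rw [e, one_smul])
  have key : ∀ u : G, u • a = a → u ^ 3 = 1 → u⁻¹ * (s * t * s⁻¹) ∈ Γ.Q a → s * t * s⁻¹ = u := by
    intro u u1 u2 u3
    by_contra e
    have e1 : s * t * s⁻¹ = u * z := by
      rw [← z3 _ u3 fun e' => e (inv_mul_eq_one.1 e').symm]; group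
    have e2 : (u * z) ^ 3 = 1 := by rw [← e1, conj_pow, t2]; group
    rw [(show Commute u z from zc u u1).mul_pow, u2, one_mul, pow_succ, pow_two, zz, one_mul] at e2
    exact z2 e2
  have k2 : s * t * s⁻¹ = t⁻¹ := by
    rcases Tri.mem_Q_of_moves t1 t3 (Tri.conj_fix' s5 t1) (fun l hl e => t3 _
      (Tri.adj_fix (inv_smul_eq_iff.2 s5.symm) hl)
      (by rwa [mul_smul, mul_smul, ← eq_inv_smul_iff] at e)) with h' | h'
    · refine absurd (Tri.mem_Q_of_fix s5 h (Tri.adj_fix t1 h) (t3 b h).symm s1.1 ?_) s4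
      rw [← mul_smul, mul_inv_eq_iff_eq_mul.1 (key t t1 t2 h'), mul_smul, s1.1]
    · exact key _ (inv_smul_eq_iff.2 t1.symm) (by rw [inv_pow, t2, inv_one]) (by rwa [inv_inv])
  have cm : Commute t z := zc t t1
  have o1 : orderOf (t * z) = 6 := by
    have : Fact (Nat.Prime 3) := ⟨Nat.prime_three⟩
    have o3 := orderOf_eq_prime t2 t4
    have o2 := Inv.two_of_mul_self z2 zz
    rw [cm.orderOf_mul_eq_mul_orderOf_of_coprime (by rw [o3, o2]; norm_num), o3, o2]
  have k3 : s * (t * z) * s⁻¹ = (t * z)⁻¹ := by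
    rw [← conj_mul, k2, zc s s5, mul_inv_cancel_right, mul_inv_rev, inv_eq_of_mul_eq_one_right zz,
      cm.inv_left.eq]
  have o2 : (t * z) ^ 6 = 1 := o1 ▸ pow_orderOf_eq_one _
  obtain ⟨f⟩ := equiv_of_injective (K := stabilizer G a) _ (Inv.dihedralHom_injective o2 ss k3 o1
    (fun e => by
      obtain ⟨k, rfl⟩ := mem_zpowers_iff.1 e
      rw [((Commute.refl (t * z)).zpow_left k).eq, mul_inv_cancel_right, eq_inv_iff_mul_eq_one,
        ← pow_two] at k3
      exact absurd (o1 ▸ orderOf_dvd_of_pow_eq_one k3) (by norm_num)))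
    (fun x => by
      have : (Inv.dihedralHom _ _ _ o2 ss k3).range ≤ stabilizer G a := by
        rw [Inv.dihedralHom_range, closure_le]
        rintro _ (rfl | rfl)
        exacts [mul_mem t1 z1.1, s5]
      exact this ⟨x, rfl⟩) (by rw [c3, c2, c4, DihedralGroup.nat_card])
  exact Or.inr ⟨f⟩

theorem sym_struct {M T : Subgroup G} [Finite M] {x : G} (hx : x ∈ normalizer (T : Set G))
    (hT : M ⊓ cj x M = T) (two : IsPGroup 2 T) (idx : T.relIndex M = 3)
    (nn : ¬ M ≤ normalizer (T : Set G))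
    (faith : ∀ N ≤ T, M ≤ normalizer (N : Set G) → cj x M ≤ normalizer (N : Set G) → N = ⊥) :
    (LocalEven.CharP 2 M → Nonempty (M ≃* Equiv.Perm (Fin 4)) ∨
      Nonempty (M ≃* Equiv.Perm (Fin 4) × Multiplicative (ZMod 2))) ∧
    (¬ LocalEven.CharP 2 M → Nonempty (M ≃* Equiv.Perm (Fin 3)) ∨
      Nonempty (M ≃* DihedralGroup 6)) := by
  have : Fact (Nat.Prime 2) := ⟨Nat.prime_two⟩
  have e := cj_eq_of_mem_normalizer hx
  have hA : Am3 M (cj x M) := ⟨‹_›, finite_cj x M, hT ▸ two, hT ▸ idx, by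
    rw [hT, ← idx, ← relIndex_cj x T M, e], hT ▸ nn, by
    rw [hT]; intro h; rw [← e, ← cj_normalizer, cj_le_cj] at h; exact nn h, hT ▸ faith⟩
  refine ⟨fun hc => ?_, fun hc => ?_⟩
  · have := finite_of_le (hT ▸ inf_le_left : T ≤ M)
    have k : ¬ M ≤ centralizer (omegaOneCenter 2 T : Set G) := fun h => by
      refine omegaOneCenter_ne_bot two (fun e => nn (by rw [e, normalizer_eq_top]; exact le_top)) (faith _ (omegaOneCenter_le T)
        (h.trans (centralizer_le_normalizer _)) (le_trans ?_ (centralizer_le_normalizer _)))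
      rw [← e, ← cj_omegaOneCenter, ← cj_centralizer, cj_le_cj]
      exact h
    rcases hA.struct hc (hc.cj x) (hT ▸ k) (by
      rw [hT]; intro h; rw [← e, ← cj_omegaOneCenter, ← cj_centralizer, cj_le_cj] at h; exact k h)
      with h | h
    exacts [Or.inl h.1, Or.inr h.1]
  · have hc' : ¬ LocalEven.CharP 2 (cj x M) := fun h => hc (charP_cj_iff.1 h)
    generalize cj x M = M' at hA hc'
    obtain ⟨V, _, Γ, a, b, h1, rfl, rfl⟩ := hA.exists_tri
    exact Tri.struct_not_ch h1 (fun h => hc (Tri.ch_iff.1 h)) fun h => hc' (Tri.ch_iff.1 h)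

/-- If `T` has index three in `M`, then `M` normalizes `O²(T)`. -/
theorem le_normalizer_pResOf_of_three {M T : Subgroup G} [Finite M] (hle : T ≤ M)
    (h : T.relIndex M = 3) : M ≤ normalizer (pResOf 2 T : Set G) := by
  let K := ((T.subgroupOf M).normalCore).map M.subtype
  have k1 : K ≤ T := by
    rintro _ ⟨y, hy, rfl⟩
    exact normalCore_le (T.subgroupOf M) hy
  have k2 : K.relIndex T ∣ 2 := by
    have h1 := relIndex_mul_relIndex _ _ _ k1 hle
    have h2 : K.relIndex M ∣ 6 := by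
      rw [relIndex, map_subtype_subgroupOf, normalCore_eq_ker, index_ker]
      refine (card_subgroup_dvd_card _).trans ?_
      rw [Nat.card_perm, ← index_eq_card, show (T.subgroupOf M).index = 3 from h]
      rfl
    rw [← h1, h] at h2
    exact Nat.dvd_of_mul_dvd_mul_right (by norm_num) h2
  have k3 : M ≤ normalizer (K : Set G) := le_normalizer_map_subtype _
  have k4 : pResOf 2 T ≤ K := pResOf_le_of_pow_mem fun y hy => ⟨1, by
    have : (K.subgroupOf T).Normal := (normal_subgroupOf_iff_le_normalizer k1).2 (hle.trans k3)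
    obtain ⟨c, hc⟩ := k2
    rw [pow_one, hc, pow_mul]
    exact K.pow_mem ((K.subgroupOf T).pow_index_mem ⟨y, hy⟩) c⟩
  rw [← pResOf_eq_of_le k4 k1]
  exact k3.trans (normalizer_le_normalizer_pResOf K)

theorem sims [Finite G] {Ω : Type*} [MulAction G Ω] [FaithfulSMul G Ω]
    (hprim : IsPreprimitive G Ω) (a b : Ω) (h3 : Nat.card (orbit (stabilizer G a) b) = 3) :
    Nonempty (stabilizer G a ≃* Multiplicative (ZMod 3)) ∨
      Nonempty (stabilizer G a ≃* Equiv.Perm (Fin 3)) ∨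
      Nonempty (stabilizer G a ≃* DihedralGroup 6) ∨ Nonempty (stabilizer G a ≃* Equiv.Perm (Fin 4)) ∨
      Nonempty (stabilizer G a ≃* Equiv.Perm (Fin 4) × Multiplicative (ZMod 2)) := by
  have : Fact (Nat.Prime 2) := ⟨Nat.prime_two⟩
  have i1 : (stabilizer G a ⊓ stabilizer G b).relIndex (stabilizer G a) = 3 := by
    rw [inf_relIndex_left, relIndex, show (stabilizer G b).subgroupOf (stabilizer G a) =
      stabilizer (stabilizer G a) b from rfl, index_stabilizer]
    exact h3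
  obtain ⟨g, rfl⟩ := exists_smul_eq G a b
  rw [stab_smul] at i1
  set M := stabilizer G a
  have i2 : (M ⊓ cj g M).relIndex (cj g M) = 3 := by
    have h1 := card_mul_relIndex (inf_le_left : M ⊓ cj g M ≤ _)
    have h2 := card_mul_relIndex (inf_le_right : M ⊓ cj g M ≤ _)
    rw [card_cj, ← h1, i1] at h2
    exact Nat.eq_of_mul_eq_mul_left Nat.card_pos h2
  have nle : ¬ cj g M ≤ M := fun h => by rw [inf_eq_right.2 h, relIndex_self] at i2; omega
  have : Nontrivial Ω := ⟨a, g • a, fun e => nle (by rw [← stab_smul, ← e])⟩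
  have faith : ∀ N ≤ M ⊓ cj g M, M ≤ normalizer (N : Set G) → cj g M ≤ normalizer (N : Set G) →
      N = ⊥ := fun N h1 h2 h3 => by
    have := normalizer_eq_top_iff.1 ((hprim.isCoatom_stabilizer_of_isPreprimitive G a).2 _
      (lt_of_le_of_ne h2 fun e => nle (h3.trans e.ge)))
    refine (eq_bot_iff_forall _).2 fun x hx => eq_of_smul_eq_smul (α := Ω) fun c => ?_
    obtain ⟨k, rfl⟩ := exists_smul_eq G a c
    have : (k⁻¹ * x * k) • a = a := (h1 (this.conj_mem' x hx k)).1
    rwa [one_smul, ← inv_smul_eq_iff, ← mul_smul, ← mul_smul]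
  have two := isPGroup_of_pResOf_eq_bot (faith _ (pResOf_le _)
    (le_normalizer_pResOf_of_three inf_le_left i1) (le_normalizer_pResOf_of_three inf_le_right i2))
  have s1 := isSylowIn_of_not_dvd inf_le_left two (by rw [i1]; norm_num)
  have s2 := isSylowIn_of_not_dvd inf_le_right two (by rw [i2]; norm_num)
  obtain ⟨k, k1, k2⟩ := (s1.cj g).conj s2
  rw [cj_cj] at k2
  have k3 : cj (k * g) M = cj g M := by rw [cj_mul, cj_eq_of_mem k1]
  by_cases nn : M ≤ normalizer ((M ⊓ cj g M : Subgroup G) : Set G)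
  · have := faith _ le_rfl nn (by
      rw [← k2, ← cj_normalizer, ← k3]
      exact cj_mono _ (by rwa [k3]))
    rw [this, relIndex_bot_left] at i1
    have : Fact (Nat.Prime 3) := ⟨Nat.prime_three⟩
    exact Or.inl ⟨mulEquivOfPrimeCardEq i1 (by simp)⟩
  have := sym_struct (cj_eq_self_iff.1 k2) (by rw [k3]) two i1 nn (by rwa [k3])
  by_cases hc : LocalEven.CharP 2 M
  · exact Or.inr (Or.inr (Or.inr (this.1 hc)))
  · rcases this.2 hc with h | h
    exacts [Or.inr (Or.inl h), Or.inr (Or.inr (Or.inl h))]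

theorem three_of_dihedral {K : Type*} [Group K] [Finite K] (S : Sylow 2 K) {q : ℕ} (hq : q.Prime)
    (h2 : q ≠ 2) (hc : centralizer (pCore 2 K : Set K) ≤ pCore 2 K) (hi : (pCore 2 K).index = 2 * q)
    (hZ : centralizer (omegaOneCenter 2 (S : Subgroup K) : Set K) ≠ ⊤)
    (hJ : ¬ (thompsonSubgroupOf 2 (S : Subgroup K)).Normal) : q = 3 := by
  have : Fact (Nat.Prime 2) := ⟨Nat.prime_two⟩
  have hs : IsPSolvable 2 K := by
    have : IsZGroup (K ⧸ pCore 2 K) := IsZGroup.of_squarefree (by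
      rw [← index_eq_card, hi]
      exact (Nat.squarefree_mul ((Nat.coprime_primes Nat.prime_two hq).2 h2.symm)).2
        ⟨Nat.prime_two.squarefree, hq.squarefree⟩)
    exact isPSolvable_of_normal _ (isPSolvable_of_isPGroup isPGroup_pCore)
      (isPSolvable_of_solvable inferInstance)
  have h1 := Transfer.pCore_le_centralizer_omegaClosure hc
  have h3 := relIndex_mul_index h1
  rw [hi] at h3
  set C := centralizer (Transfer.omegaClosure 2 K : Set K)
  have h4 : q ∣ C.index := ((hq.dvd_mul.1 (h3 ▸ Dvd.intro_left 2 rfl)).resolve_left fun h => by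
    obtain ⟨c, hc⟩ := h
    rw [hc, mul_assoc, mul_comm 2] at h3
    have h5 : C.index ∣ 2 := Dvd.intro_left _ (Nat.eq_of_mul_eq_mul_left hq.pos h3)
    have h6 : (C ⊔ S).index = 1 := Nat.eq_one_of_dvd_coprimes
      ((Nat.Prime.coprime_iff_not_dvd Nat.prime_two).2 S.not_dvd_index)
      ((index_dvd_of_le le_sup_left).trans h5) (index_dvd_of_le le_sup_right)
    exact hZ (top_le_iff.1 (index_eq_one.1 h6 ▸ sup_le
      (centralizer_le (Transfer.omegaOneCenter_le_omegaClosure S)) (le_centralizer_omegaOneCenter _))))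
  have h5 : C ≤ pCore 2 K := by
    obtain ⟨c, hc⟩ := h4
    rw [hc, mul_comm q, ← mul_assoc] at h3
    have h5 : (pCore 2 K).relIndex C ∣ 2 ^ 1 := Dvd.intro _ (Nat.eq_of_mul_eq_mul_right hq.pos h3)
    obtain ⟨j, -, hj⟩ := (Nat.dvd_prime_pow Nat.prime_two).1 h5
    obtain ⟨i, hi⟩ := IsPGroup.iff_card.1 (isPGroup_pCore (p := 2) (G := K))
    exact le_pCore inferInstance (IsPGroup.of_card (n := i + j) (by
      rw [← card_mul_relIndex h1, hi, hj, pow_add]))
  obtain ⟨-, E, e1, -, -, _, ⟨e⟩⟩ := exists_SL2_of_not_le hs (Transfer.ea_omegaClosure hc)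
    Transfer.pCore_quotient_centralizer_omegaClosure fun h => hJ (by
      rw [← Transfer.thompsonSubgroupOf_eq_of_le
        ((Transfer.thompsonSubgroupOf_sylow_le S).trans (h.trans h5)) (pCore_le_sylow S)]
      exact Transfer.thompsonSubgroupOf_normal _)
  have h6 : C.relIndex E = 6 := by
    rw [relIndex, index_eq_card, Nat.card_congr e.toEquiv, card_SL2_zmod]; norm_num
  have h7 : 3 * 2 ∣ q * 2 := by
    rw [mul_comm q, ← h3]
    exact (h6 ▸ relIndex_dvd_index_of_le e1).trans (Dvd.intro_left _ rfl)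
  exact ((Nat.prime_dvd_prime_iff_eq Nat.prime_three hq).1
    (Nat.dvd_of_mul_dvd_mul_right (by norm_num) h7)).symm

theorem sims_local {H : Type*} [Group H] [Finite H] [IsSimpleGroup H] (G : Subgroup H)
    (hG : IsCoatom G) (hc : centralizer (pCore 2 G : Set G) ≤ pCore 2 G) (S : Sylow 2 G)
    (hN : ¬ normalizer (((S : Subgroup G).map G.subtype : Subgroup H) : Set H) ≤ G) {q : ℕ}
    (hq : q.Prime) (e : G ⧸ pCore 2 G ≃* DihedralGroup q) : Nonempty (G ≃* Equiv.Perm (Fin 4)) ∨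
      Nonempty (G ≃* Equiv.Perm (Fin 4) × Multiplicative (ZMod 2)) := by
  have : Fact (Nat.Prime 2) := ⟨Nat.prime_two⟩
  obtain ⟨x, x1, x2⟩ := SetLike.not_le_iff_exists.1 hN
  have hT := isSylowIn_map S
  have hi : (pCore 2 G).index = 2 * q := by
    rw [index_eq_card, Nat.card_congr e.toEquiv, DihedralGroup.nat_card]
  have h0 := hq.two_le
  have h2 : q ≠ 2 := by
    rintro rfl
    have h1 : pCore 2 (G ⧸ pCore 2 G) = ⊤ := pCore_eq_top_iff.2 (IsPGroup.of_card (n := 2) hi)
    rw [pCore_quotient_pCore] at h1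
    have := card_top (G := G ⧸ pCore 2 G)
    rw [← h1, card_bot, ← index_eq_card] at this
    omega
  have idx : S.1.index = q := by
    have h1 : S.1.index ∣ 2 * q := hi ▸ index_dvd_of_le (pCore_le_sylow S)
    rcases (Nat.dvd_prime hq).1 (((Nat.Prime.coprime_iff_not_dvd Nat.prime_two).2
      S.not_dvd_index).symm.dvd_of_dvd_mul_left h1) with h | h
    · rw [pCore_eq_top_iff.2 (S.2.of_equiv ((MulEquiv.subgroupCongr (index_eq_one.1 h)).trans
        topEquiv)), index_top] at hi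
      omega
    · exact h
  set T := (S : Subgroup G).map G.subtype with hTd
  have idx' : T.relIndex G = q := by rw [relIndex, hTd, map_subtype_subgroupOf, idx]
  have key : ∀ N ≤ G, G ≤ normalizer (N : Set H) → ¬ normalizer (N : Set H) ≤ G → N = ⊥ :=
    fun N h1 h2 h3 => ((normalizer_eq_top_iff.1 (hG.2 _ (lt_of_le_of_ne h2 fun e => h3 e.ge)))
      |>.eq_bot_or_eq_top).resolve_right fun e => hG.1 (top_le_iff.1 (e ▸ h1))
  have T0 : T ≠ ⊥ := hT.ne_bot ((Dvd.intro _ hi.symm).trans (index_dvd_card _))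
  have nle : ¬ cj x G ≤ G := fun h => T0 (le_bot_iff.1 (key G le_rfl le_normalizer
    (fun h' => x2 (h' (mem_normalizer_of_cj_le h))) ▸ hT.le))
  have h3 : q = 3 := three_of_dihedral S hq h2 hc hi (fun h => omegaOneCenter_ne_bot hT.pgrp T0
    (key _ ((omegaOneCenter_le T).trans hT.le) (by
      refine le_trans (fun g hg => ?_) (centralizer_le_normalizer _)
      rw [hTd, ← map_omegaOneCenter_of_injective _ G.subtype_injective]
      rintro _ ⟨y, hy, rfl⟩
      exact congrArg Subtype.val ((h ▸ mem_top (⟨g, hg⟩ : G)) y hy))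
      fun h' => x2 (h' (normalizer_le_normalizer_omegaOneCenter T x1))))
    fun h => Transfer.thompsonSubgroupOf_ne_bot_of_isPGroup hT.pgrp T0
      (key _ ((Transfer.thompsonSubgroupOf_le T).trans hT.le) (by
        rw [hTd, ← Transfer.map_thompsonSubgroupOf_of_injective _ G.subtype_injective]
        exact le_normalizer_map_subtype _)
      fun h' => x2 (h' (Transfer.normalizer_le_normalizer_thompsonSubgroupOf T x1)))
  have h4 : T ≤ G ⊓ cj x G := le_inf hT.le (cj_eq_of_mem_normalizer x1 ▸ cj_mono x hT.le)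
  have h5 : G ⊓ cj x G = T := by
    have h5 := relIndex_mul_relIndex _ _ _ h4 inf_le_left
    rw [idx'] at h5
    rcases (Nat.dvd_prime hq).1 (Dvd.intro _ h5) with h | h
    · exact le_antisymm (relIndex_eq_one.1 h) h4
    · rw [h] at h5
      have h6 := (relIndex_eq_one.1 (Nat.eq_of_mul_eq_mul_left hq.pos (h5.trans (mul_one q).symm))).trans
        inf_le_right
      exact absurd (eq_of_le_of_card_le h6 (card_cj x G).le).ge nle
  exact (sym_struct x1 h5 hT.pgrp (h3 ▸ idx') (fun h => T0 (key T hT.le h hN))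
    fun N h1 h2 h3 => key N (h1.trans hT.le) h2 fun h => nle (h3.trans h)).1 (charP_iff.2 hc)

end Cfsg.Agent.PLocal
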