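import Mathlib
import Cfsg.Prelude.Def_Local
import Cfsg.Agent.Inv.Pairs
import Cfsg.Agent.LocalEven.Resid
import Cfsg.Agent.Comp2.Bender

/-!
# Tightly embedded subgroups
-/

set_option autoImplicit false

namespace Cfsg.Agent.PLocal

open Subgroup Cfsg.Agent.LocalEven

variable {G : Type*} [Group G]

theorem tight_cj {Q : Subgroup G} (hQ : IsTightlyEmbedded Q) (g : G) :
    IsTightlyEmbedded (cj g Q) := by
  refine ⟨by rw [card_cj]; exact hQ.1, fun x hx => ?_⟩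
  rw [← cj_normalizer, mem_cj] at hx
  have := hQ.2 _ hx
  rw [← card_cj g, cj_inf] at this
  change Odd (Nat.card (cj g Q ⊓ cj x (cj g Q) : Subgroup G))
  change Odd (Nat.card (cj g Q ⊓ cj g (cj (g⁻¹ * x * g) Q) : Subgroup G)) at this
  rwa [cj_cj, ← mul_assoc, ← mul_assoc, mul_inv_cancel, one_mul, cj_mul] at this

theorem tight_eq_bot [Finite G] {Q T : Subgroup G} (hQ : IsTightlyEmbedded Q) {g : G}
    (hg : g ∉ normalizer (Q : Set G)) (hT : IsPGroup 2 T) (h1 : T ≤ Q) (h2 : T ≤ cj g Q) :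
    T = ⊥ :=
  have : Fact (Nat.Prime 2) := ⟨Nat.prime_two⟩
  eq_bot_of_not_dvd hT (le_inf h1 h2) (hQ.2 g hg).not_two_dvd_nat

theorem tight_mem_normalizer [Finite G] {Q T : Subgroup G} (hQ : IsTightlyEmbedded Q) {g : G}
    (hT : IsPGroup 2 T) (h0 : T ≠ ⊥) (h1 : T ≤ Q) (h2 : T ≤ cj g Q) :
    g ∈ normalizer (Q : Set G) := by
  by_contra hg
  exact h0 (tight_eq_bot hQ hg hT h1 h2)

theorem exists_injective_of_le_sup {A T W : Subgroup G} (hc : ⁅T, W⁆ = ⊥) (hTW : T ⊓ W = ⊥)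
    (hA : A ≤ T ⊔ W) (hAT : A ⊓ T = ⊥) : ∃ f : A →* W, Function.Injective f := by
  have h1 : ∀ a : A, ∃ t ∈ T, ∃ w ∈ W, t * w = a := fun a =>
    Comp2.mem_sup_of_commutator_eq_bot hc (hA a.2)
  choose t ht w hw e using h1
  have hcomm := fun a b => commute_of_le_centralizer (LocalEven.commutator_eq_bot_iff.1 hc) (ht a) (hw b)
  refine ⟨MonoidHom.mk' (fun a => ⟨w a, hw a⟩) fun a b => Subtype.ext ?_,
    (injective_iff_map_eq_one _).2 fun a ha => ?_⟩
  · have h2 : (t a * t b)⁻¹ * t (a * b) = w a * w b * (w (a * b))⁻¹ := by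
      have h3 := e (a * b)
      rw [coe_mul, ← e a, ← e b] at h3
      calc (t a * t b)⁻¹ * t (a * b) = (t a * t b)⁻¹ * (t (a * b) * w (a * b)) * (w (a * b))⁻¹ := by
            group
        _ = (t b)⁻¹ * (w a * t b) * w b * (w (a * b))⁻¹ := by rw [h3]; group
        _ = _ := by rw [← hcomm b a]; group
    have h3 : w a * w b * (w (a * b))⁻¹ ∈ T ⊓ W :=
      ⟨h2 ▸ T.mul_mem (T.inv_mem (T.mul_mem (ht a) (ht b))) (ht _),
        W.mul_mem (W.mul_mem (hw a) (hw b)) (W.inv_mem (hw _))⟩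
    rw [hTW, mem_bot, mul_inv_eq_one] at h3
    exact h3.symm
  · have h2 : w a = 1 := congrArg Subtype.val ha
    have h3 := e a
    rw [h2, mul_one] at h3
    exact Subtype.ext (mem_bot.1 (hAT ▸ mem_inf.2 ⟨a.2, h3 ▸ ht a⟩))

theorem tight_aux [Finite G] {Q : Subgroup G} (hQ : IsTightlyEmbedded Q) {g : G}
    (hg : g ∉ normalizer (Q : Set G)) {T S : Subgroup G} (hT1 : T ≠ ⊥)
    (hT : IsSylowIn 2 T (cj g Q ⊓ normalizer (Q : Set G))) (hTS : T ≤ S)
    (hS : IsSylowIn 2 S (Q ⊔ T)) :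
    T ⊓ Q = ⊥ ∧ ⁅T, S ⊓ normalizer (T : Set G) ⊓ Q⁆ = ⊥ ∧
      T ⊔ (S ⊓ normalizer (T : Set G) ⊓ Q) = S ⊓ normalizer (T : Set G) ∧
      S ⊓ normalizer (T : Set G) ⊓ Q ≤ normalizer ((cj g Q : Subgroup G) : Set G) ∧
      ∃ f : T →* (S ⊓ normalizer (T : Set G) ⊓ Q : Subgroup G), Function.Injective f := by
  have : Fact (Nat.Prime 2) := ⟨Nat.prime_two⟩
  have hTQ : T ≤ cj g Q := hT.1.trans inf_le_left
  have hTN : T ≤ normalizer (Q : Set G) := hT.1.trans inf_le_right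
  have h1 : T ⊓ Q = ⊥ := tight_eq_bot hQ hg (hT.2.to_le inf_le_left) inf_le_right
    (inf_le_left.trans hTQ)
  have h2 : ⁅T, S ⊓ normalizer (T : Set G) ⊓ Q⁆ = ⊥ := by
    rw [eq_bot_iff, ← h1]
    exact le_inf (commutator_le_left_of_le_normalizer (inf_le_left.trans inf_le_right))
      ((commutator_mono le_rfl inf_le_right).trans (commutator_le_right_of_le_normalizer hTN))
  have h3 : T ⊔ (S ⊓ normalizer (T : Set G) ⊓ Q) = S ⊓ normalizer (T : Set G) := by
    rw [inf_comm _ Q, ← inf_sup_of_le_normalizer hTN (le_inf hTS le_normalizer), inf_eq_right,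
      sup_comm]
    exact inf_le_left.trans hS.1
  refine ⟨h1, h2, h3, fun w hw => tight_mem_normalizer (tight_cj hQ g) hT.2 hT1 hTQ ?_, ?_⟩
  · rw [← cj_eq_of_mem_normalizer hw.1.2]
    exact cj_mono _ hTQ
  have hSN : S ≤ normalizer (Q : Set G) := hS.1.trans (sup_le le_normalizer hTN)
  rcases (inf_le_left : S ⊓ normalizer (T : Set G) ≤ S).eq_or_lt with h | h
  · rw [h]
    obtain ⟨x, -, hx⟩ := (hS.inf_of_le_normalizer le_sup_left
      (sup_le le_normalizer hTN)).exists_cj_le (isPGroup_cj g⁻¹ hT.2) (le_cj_iff.1 hTQ)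
    rw [cj_cj] at hx
    exact ⟨(inclusion hx).comp (cjEquiv _ T).toMonoidHom,
      (inclusion_injective hx).comp (cjEquiv _ T).injective⟩
  · obtain ⟨x, hxS, hx1, hx2⟩ := exists_mem_normalizer_of_lt hS.2 h
    obtain ⟨f, hf⟩ := exists_injective_of_le_sup (A := cj x T) h2
      (le_bot_iff.1 ((inf_le_inf_left _ inf_le_right).trans h1.le))
      ((cj_le_of_mem_normalizer hx1 (le_inf hTS le_normalizer)).trans h3.ge) (by
        by_contra h0
        have h4 := tight_mem_normalizer (tight_cj hQ g) (hT.2.to_le inf_le_right) h0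
          (inf_le_right.trans hTQ) (inf_le_left.trans (cj_mono x hTQ))
        have h5 := hT.max (S ⊓ cj g Q) (le_inf inf_le_right (inf_le_left.trans hSN))
          (hS.2.to_le inf_le_left) (le_inf hTS hTQ)
        exact hx2 ⟨hxS, mem_normalizer_of_cj_le (le_trans (le_inf (cj_le_of_mem hxS hTS)
          (cj_le_of_mem_normalizer h4 hTQ)) h5.le)⟩)
    exact ⟨f.comp (cjEquiv _ T).toMonoidHom, hf.comp (cjEquiv _ T).injective⟩

theorem tight_card_le [Finite G] {Q : Subgroup G} (hQ : IsTightlyEmbedded Q) {g : G}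
    (hg : g ∉ normalizer (Q : Set G)) {T W : Subgroup G}
    (hT : IsSylowIn 2 T (cj g Q ⊓ normalizer (Q : Set G))) (hW : IsPGroup 2 W)
    (h : W ≤ Q ⊓ normalizer ((cj g Q : Subgroup G) : Set G)) : Nat.card W ≤ Nat.card T := by
  have : Fact (Nat.Prime 2) := ⟨Nat.prime_two⟩
  by_cases h0 : W = ⊥
  · rw [h0, card_bot]; exact Nat.card_pos
  obtain ⟨T₁, hT₁, hle⟩ := exists_isSylowIn_le hW h
  obtain ⟨S, hS, hTS⟩ := exists_isSylowIn_le hT₁.2 (le_sup_right : T₁ ≤ cj g Q ⊔ T₁)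
  obtain ⟨-, -, -, h4, f, hf⟩ := tight_aux (tight_cj hQ g) (g := g⁻¹)
    (by rw [← cj_normalizer, mem_cj]; simpa using hg) (fun e => h0 (le_bot_iff.1 (e ▸ hle)))
    (by rwa [cj_inv_cj]) hTS hS
  rw [cj_inv_cj] at h4
  exact (card_le_of_le hle).trans ((Nat.card_le_card_of_injective f hf).trans
    (hT.card_le (le_inf inf_le_right h4) (hS.2.to_le (inf_le_left.trans inf_le_left))))

end Cfsg.Agent.PLocal
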