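import Mathlib
import Cfsg.Agent.PLocal.JC6
import Cfsg.Agent.Comp2.Kill4
import Cfsg.Agent.Inv.Rank2
import Cfsg.Agent.Inv.FourSylow
import Cfsg.Agent.S0112
import Cfsg.Agent.PGrp.MaxClass2

/-! Groups with solvable involution centralizers and a `2`-closed centralizer of `Ω₁(Z(S))`. -/

set_option autoImplicit false

namespace Cfsg.Agent.PLocal

open Subgroup LocalEven Transfer

variable {G : Type*} [Group G] [Finite G] {T U V M P : Subgroup G} {z a g t : G}

omit [Finite G] in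
theorem conj_sq (h : a * a = 1) : g * a * g⁻¹ * (g * a * g⁻¹) = 1 := by rw [conj_mul, h]; simp

omit [Finite G] in
theorem mc_map {x y : T} {n : ℕ} (h : Inv.MC (⊤ : Subgroup T) x y n) : Inv.MC T x y n := by
  have := h.map T.subtype_injective
  rwa [← MonoidHom.range_eq_map, range_subtype] at this

theorem mc_of_four (hT : IsPGroup 2 T) (hV : IsKleinFour V) (h1 : V ≤ T)
    (h2 : T ⊓ centralizer (V : Set G) ≤ V) (h3 : T ≠ V) : ∃ x y n, Inv.MC T x y (n + 1) := by
  have : Fact (Nat.Prime 2) := ⟨Nat.prime_two⟩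
  obtain ⟨n, hn⟩ := hT.exists_card_eq
  have c1 := Inv.four_card hV
  have c2 : 3 ≤ n := by
    by_contra e
    have := Nat.pow_le_pow_right (show 0 < 2 by norm_num) (show n ≤ 2 by omega)
    exact h3 (eq_of_le_of_card_le h1 (by omega)).symm
  obtain ⟨x, y, h⟩ := PGrp.exists_mc_of_class c2 hn (S0112.result n hn (V.subgroupOf T)
    (by rw [card_subgroupOf h1, c1]; norm_num) (le_antisymm (fun x hx => h2 ⟨x.2, fun v hv =>
      congrArg Subtype.val (hx ⟨v, h1 hv⟩ hv)⟩) fun x hx v hv =>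
      Subtype.ext (Inv.four_commute hV hv hx).eq))
  exact ⟨x, y, n - 3, by rw [show n - 3 + 1 = n - 2 by omega]; exact mc_map h⟩

theorem mc_or_four (hT : IsPGroup 2 T) (hnc : ¬ IsCyclic T) : (∃ x y n, Inv.MC T x y (n + 1)) ∨
    ∃ U ≤ T, IsKleinFour U ∧ T ≤ normalizer (U : Set G) := by
  by_cases h : ∀ A : Subgroup T, A.Normal → IsMulCommutative A → IsCyclic A
  · obtain ⟨x, y, m, h1, h2⟩ := PGrp.mc_of_normal_abelian_cyclic hT h hnc
    exact Or.inl ⟨x, y, m - 1, by rw [show m - 1 + 1 = m by omega]; exact mc_map h2⟩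
  push Not at h
  obtain ⟨A, a1, a2, a3⟩ := h
  obtain ⟨U, u1, u2, u3⟩ := Inv.exists_normal_four_of_comm hT (map_subtype_le A)
    (le_normalizer_map_subtype A) inferInstance fun e =>
    a3 ((equivMapOfInjective A _ T.subtype_injective).isCyclic.2 e)
  exact Or.inr ⟨U, u1.trans (map_subtype_le A), u2, u3⟩

theorem maxclass_of_four (hT : IsPGroup 2 T) (hV : IsKleinFour V) (h1 : V ≤ T)
    (h2 : T ⊓ centralizer (V : Set G) ≤ V) :
    (∃ m : ℕ, 2 ≤ m ∧ Nonempty (T ≃* DihedralGroup m)) ∨ IsQuasiDihedral T := by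
  by_cases h3 : T = V
  · subst h3
    exact Or.inl ⟨2, le_rfl, IsKleinFour.nonempty_mulEquiv⟩
  obtain ⟨x, y, n, h⟩ := mc_of_four hT hV h1 h2 h3
  exact Inv.max_class_of_four h.rank_two hT hV h1 (le_antisymm h2 (le_inf h1 fun x hx v hv =>
    (Inv.four_commute hV hv hx).eq))

theorem se_crit (hT : IsSylowIn 2 T ⊤) (h0 : T ≠ ⊥) (h1 : M ≠ ⊤) (h2 : normalizer (T : Set G) ≤ M)
    (h3 : ∀ t ∈ T, orderOf t = 2 → centralizer {t} ≤ M) : IsStronglyEmbedded M := by
  have : Fact (Nat.Prime 2) := ⟨Nat.prime_two⟩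
  have hM := hT.mono (Subgroup.le_normalizer.trans h2) le_top
  have k1 : ∀ t ∈ M, orderOf t = 2 → centralizer {t} ≤ M := fun t t1 t2 => by
    obtain ⟨m, m1, m2⟩ := hM.exists_conj_mem (k := 1) t1 (by rw [pow_one, ← t2, pow_orderOf_eq_one])
    have := h3 _ m2 (Inv.two_conj t2 m)
    rw [← cj_centralizer_singleton, cj_le_iff, cj_eq_of_mem (inv_mem m1)] at this
    exact this
  have k2 : ∀ P : Subgroup G, IsPGroup 2 P → ∀ t ∈ P, t ∈ M → orderOf t = 2 → P ≤ M :=
    fun P p1 t t1 t2 t3 => by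
      obtain ⟨z, z1, z2, z3⟩ := exists_mem_inf_centralizer p1 p1 Subgroup.le_normalizer
        fun e => ne_one_of_orderOf_eq t3 (mem_bot.1 (e ▸ t1))
      exact le_trans (fun x hx => mem_centralizer_singleton_iff.2 (z2 x hx)) (k1 z (k1 t t2 t3
        (mem_centralizer_singleton_iff.2 (z2 t t1).symm)) z3)
  obtain ⟨s, s1, s2⟩ := exists_mem_orderOf_eq_of_ne_bot hT.pgrp h0
  refine Inv.se_of h1 (hM.le s1) s2 fun t t1 t2 g g1 => ?_
  obtain ⟨S, hS, s3⟩ := exists_isSylowIn_le (isPGroup_zpowers_of_orderOf (p := 2) (k := 1) t2) le_top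
  have e1 := hS.mono (k2 S hS.pgrp t (s3 (mem_zpowers t)) t1 t2) le_top
  obtain ⟨x, x1, x2⟩ := ((hS.cj_of_mem (mem_top g)).mono (k2 _ (isPGroup_cj g hS.pgrp) _
    (conj_mem_cj (s3 (mem_zpowers t))) g1 (Inv.two_conj t2 g)) le_top).conj e1
  obtain ⟨y, y1, rfl⟩ := hM.conj e1
  rw [cj_cj, cj_eq_self_iff, ← cj_normalizer] at x2
  exact (mul_mem_cancel_left x1).1 (cj_le_of_mem y1 h2 x2)

/-- `z` is a central involution of the Sylow subgroup `T` with `2`-closed centralizer. -/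
structure ZT (T : Subgroup G) (z : G) : Prop where
  syl : IsSylowIn 2 T ⊤
  mem : z ∈ T
  two : orderOf z = 2
  cent : T ≤ centralizer {z}
  cl : centralizer {z} ≤ normalizer (T : Set G)

namespace ZT

omit [Finite G] in
theorem cj' (h : ZT T z) (g : G) : ZT (cj g T) (g * z * g⁻¹) :=
  have : Fact (Nat.Prime 2) := ⟨Nat.prime_two⟩
  ⟨h.syl.cj_of_mem (mem_top g), conj_mem_cj h.mem, Inv.two_conj h.two g,
    cj_centralizer_singleton g z ▸ cj_mono g h.cent,
    cj_centralizer_singleton g z ▸ cj_normalizer g T ▸ cj_mono g h.cl⟩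

omit [Finite G] in
theorem mem_of (h : ZT T z) (hP : IsPGroup 2 P) (h1 : a ∈ P) (h2 : a * z = z * a) : a ∈ T := by
  have : Fact (Nat.Prime 2) := ⟨Nat.prime_two⟩
  obtain ⟨k, hk⟩ := isPGroup_iff_mem.1 hP a h1
  exact h.syl.mem_of_mem_normalizer (mem_top a) hk (h.cl (mem_centralizer_singleton_iff.2 h2))

omit [Finite G] in
theorem comm (h : ZT T z) (ha : a ∈ T) : a * z = z * a := mem_centralizer_singleton_iff.1 (h.cent ha)

theorem conj_of_mc (h : ZT T z) (hno : ∀ H : Subgroup G, H.index ≠ 2) {x y : G} {n : ℕ}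
    (hm : Inv.MC T x y (n + 1)) (ht : orderOf t = 2) : ∃ k : G, k * t * k⁻¹ = z := by
  have : Fact (Nat.Prime 2) := ⟨Nat.prime_two⟩
  by_contra e
  obtain ⟨N, -, n1, -⟩ := thompson_transfer (H := T) (by
    have := h.syl.not_dvd
    rwa [relIndex_top_right, ← even_iff_two_dvd, Nat.not_even_iff_odd] at this) hm.relIndex ht
    fun k hk => e ⟨k, (hm.eq_z hk (Inv.two_conj ht k)).trans (((hm.central_cases h.mem fun g hg =>
      (h.comm hg).symm).resolve_left (ne_one_of_orderOf_eq h.two)).symm)⟩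
  exact hno N n1

theorem selfcent (h : ZT T z) (hr : Inv.R2 T) (hU : IsKleinFour U) (u1 : U ≤ T)
    (u2 : T ≤ normalizer (U : Set G)) (a1 : g * z * g⁻¹ ∈ T) (a2 : g * z * g⁻¹ ∉ centralizer (U : Set G))
    (a3 : g⁻¹ * z * g ∉ centralizer (U : Set G)) : ∃ x y n, Inv.MC T x y (n + 1) := by
  have : Fact (Nat.Prime 2) := ⟨Nat.prime_two⟩
  have h' := h.cj' g
  have zc : z ∈ centralizer (U : Set G) := fun u hu => h.comm (u1 hu)
  have zU := hr.mem_four hU u1 h.mem (Inv.mul_self_of_two h.two) zc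
  have z1 := ne_one_of_orderOf_eq h.two
  have hU' := Inv.four_cj hU g
  have aU := conj_mem_cj (g := g) zU
  have zT := h'.mem_of h.syl.pgrp h.mem (h.comm a1).symm
  have zn : z ∈ normalizer (cj g U : Set G) := cj_normalizer g U ▸ cj_mono g u2 zT
  have zc' : z ∉ centralizer (cj g U : Set G) := by rwa [← cj_centralizer, mem_cj]
  have u3 := cj_mono g u1
  generalize g * z * g⁻¹ = a at *
  generalize cj g U = U' at *
  generalize cj g T = T' at *
  obtain ⟨u, k1, k2, k3⟩ := Inv.four_exists_ne hU' a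
  have e1 := Inv.four_swap hU' zn zc' aU (ne_one_of_orderOf_eq h'.two)
    (by rw [← h.comm a1, mul_inv_cancel_right]) k1 k2 k3
  have az : z ≠ a := fun e => a2 (e ▸ zc)
  have hV := Inv.isKleinFour_closure h.two h'.two (h.comm a1).symm az
  have mV := fun x => Inv.mem_closure_commute_iff (x := x) (Inv.mul_self_of_two h.two)
    (Inv.mul_self_of_two h'.two) (h.comm a1).symm
  have vT : closure {z, a} ≤ T := (closure_le _).2 (by rintro _ (rfl | rfl); exacts [h.mem, a1])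
  have sq : ∀ c ∈ T, c * c ∈ centralizer (U : Set G) := fun c hc => by
    by_cases e : c ∈ centralizer (U : Set G)
    exacts [mul_mem e e, Inv.four_mul_mem_centralizer h.syl.pgrp hU u2 hc hc e e]
  have uu := Inv.four_mul_self hU' k1
  have e2 : u * z * u⁻¹ = a * z := by
    rw [inv_eq_of_mul_eq_one_right uu, ← mul_inv_eq_iff_eq_mul, mul_assoc, mul_assoc, ← mul_assoc z,
      e1, ← mul_assoc, (Inv.four_commute hU' k1 aU).eq, mul_assoc, uu, mul_one]
  have e3 : u * a * u⁻¹ = a := by rw [(Inv.four_commute hU' k1 aU).eq, mul_inv_cancel_right]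
  have key : ∀ c ∈ T, c * a = a * c → c * c * (c * c) = 1 → c * c = 1 := fun c c1 c2 c3 => by
    have c0 : c * c ∈ centralizer (closure {z, a} : Set G) := fun v hv => by
      have h1 : Commute c z := h.comm c1
      have h2 : Commute c a := c2
      rcases (mV v).1 hv with rfl | rfl | rfl | rfl
      exacts [by simp, (h1.mul_left h1).symm.eq, (h2.mul_left h2).symm.eq,
        ((h1.mul_right h2).mul_left (h1.mul_right h2)).symm.eq]
    rcases (mV _).1 (hr.mem_four hV vT (mul_mem c1 c1) c3 c0) with e | e | e | e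
    · exact e
    · have c4 := mul_mem (mul_mem (u3 k1) (h'.mem_of h.syl.pgrp c1 c2)) (inv_mem (u3 k1))
      have c5 := sq _ (h.mem_of h'.syl.pgrp c4 (by
        have : z = u * (a * z) * u⁻¹ := by
          rw [← conj_mul, e2, e3, ← mul_assoc, Inv.mul_self_of_two h'.two, one_mul]
        rw [this, conj_mul, conj_mul, ((show Commute c a from c2).mul_right (h.comm c1)).eq]))
      rw [conj_mul, e, e2] at c5
      exact absurd ((mul_mem_cancel_right zc).1 c5) a2
    · exact absurd (e ▸ sq c c1) a2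
    · exact absurd ((mul_mem_cancel_left zc).1 (e ▸ sq c c1)) a2
  have key2 : ∀ k, ∀ c ∈ T, c * a = a * c → c ^ 2 ^ k = 1 → c * c = 1 := fun k => by
    induction k with
    | zero => exact fun c _ _ hk => by rw [pow_zero, pow_one] at hk; rw [hk, one_mul]
    | succ k ih => exact fun c c1 c3 hk => key c c1 c3 (ih (c * c) (mul_mem c1 c1)
      ((Commute.mul_left c3 c3).eq) (by rw [← pow_two, ← pow_mul, ← pow_succ', hk]))
  refine mc_of_four h.syl.pgrp hV vT (fun c ⟨c1, c2⟩ => hr.mem_four hV vT c1 ?_ c2) fun e =>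
    a2 fun v hv => (Inv.four_commute hV (e ▸ u1 hv) (e ▸ a1)).eq
  obtain ⟨k, hk⟩ := isPGroup_iff_mem.1 h.syl.pgrp c c1
  exact key2 k c c1 (c2 a (subset_closure (by simp))).symm hk

theorem one_class (h : ZT T z) (hno : ∀ H : Subgroup G, H.index ≠ 2) (hr : Inv.R2 T)
    (a1 : g * z * g⁻¹ ∈ T) (a2 : g * z * g⁻¹ ≠ z) (ht : orderOf t = 2) : ∃ k : G, k * t * k⁻¹ = z := by
  have : Fact (Nat.Prime 2) := ⟨Nat.prime_two⟩
  have z1 := ne_one_of_orderOf_eq h.two
  have zz := Inv.mul_self_of_two h.two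
  have nc : ¬ IsCyclic T := fun e => by
    have hV := Inv.isKleinFour_closure h.two (Inv.two_conj h.two g) (h.comm a1).symm a2.symm
    have := Inv.card_le_two_of_cyclic_exp (isCyclic_of_le ((closure_le _).2 (by
      rintro _ (rfl | rfl); exacts [h.mem, a1]) : closure {z, g * z * g⁻¹} ≤ T))
      fun x hx => Inv.four_mul_self hV hx
    rw [Inv.four_card hV] at this
    omega
  rcases mc_or_four h.syl.pgrp nc with ⟨x, y, n, hm⟩ | ⟨U, u1, hU, u2⟩
  · exact h.conj_of_mc hno hm ht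
  have zU := hr.mem_four hU u1 h.mem zz fun u hu => h.comm (u1 hu)
  have key : (∀ u ∈ U, u ≠ 1 → ∃ k : G, k * u * k⁻¹ = z) → ∃ k : G, k * t * k⁻¹ = z := fun H => by
    obtain ⟨S, rfl⟩ := h.syl.exists_sylow_top
    obtain ⟨k, k1, k2⟩ := Inv.exists_conj_centralizes_four hno S hU u2 ht
    have k3 := Inv.two_conj ht k
    obtain ⟨l, l1⟩ := H _ (hr.mem_four hU u1 k1 (Inv.mul_self_of_two k3) k2) (ne_one_of_orderOf_eq k3)
    exact ⟨l * k, by rw [← l1]; group⟩
  by_cases hc : T ≤ centralizer (U : Set G)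
  · have mU := fun c hc' hc2 => hr.mem_four (c := c) hU u1 hc' hc2 (hc hc')
    have h' := h.cj' g
    have g1 : g ∈ normalizer (T : Set G) := cj_eq_self_iff.1 (h.syl.eq_of_le h'.syl fun x hx =>
      h'.mem_of h.syl.pgrp hx (hc hx _ (mU _ a1 (conj_sq zz))).symm).symm
    have g2 : g ∈ normalizer (U : Set G) := mem_normalizer_of_cj_le (cj_le_iff'.2 fun u hu =>
      mU _ (conj_mem_of_mem_normalizer g1 (u1 hu)) (conj_sq (Inv.four_mul_self hU hu)))
    obtain ⟨k, k1, k2, k3⟩ : ∃ k ∈ normalizer (U : Set G), (orderOf k).Coprime 2 ∧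
        k ∉ centralizer (U : Set G) := by
      by_contra! H
      exact a2 (by rw [← Inv.normalizer_le_centralizer_of_coprime (h.syl.mono u2 le_top) hc H g2 z zU,
        mul_inv_cancel_right])
    refine key fun u hu u0 => ?_
    obtain ⟨n, hn⟩ := Inv.four_trans_of_odd hU k1 (Nat.coprime_two_right.1 k2) k3 hu u0 zU z1
    exact ⟨_, hn⟩
  obtain ⟨s, s1, s2⟩ := SetLike.not_le_iff_exists.1 hc
  have k2 : ∀ g : G, g * z * g⁻¹ ∈ T → g * z * g⁻¹ ≠ z → g * z * g⁻¹ ∈ centralizer (U : Set G) →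
      ∃ k : G, k * t * k⁻¹ = z := fun g g1 g2 g3 => key fun u hu u0 => by
    have g4 := hr.mem_four hU u1 g1 (conj_sq zz) g3
    have g5 := Inv.conj_ne_one' (g := g) z1
    rcases Inv.four_cases hU zU g4 z1 g5 g2.symm hu with e | e | e | e
    · exact absurd e u0
    · exact ⟨1, by simp [e]⟩
    · exact ⟨g⁻¹, by simp [e, mul_assoc]⟩
    · rw [← Inv.four_swap hU (u2 s1) s2 zU z1 (by rw [h.comm s1, mul_inv_cancel_right]) g4 g5 g2] at e
      exact ⟨(s * g)⁻¹, by rw [e]; group⟩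
  by_cases e1 : g * z * g⁻¹ ∈ centralizer (U : Set G)
  · exact k2 g a1 a2 e1
  by_cases e2 : g⁻¹ * z * g ∈ centralizer (U : Set G)
  · refine k2 g⁻¹ ?_ (fun e => a2 (by
      rw [inv_inv, mul_assoc, inv_mul_eq_iff_eq_mul] at e; rw [← e, mul_inv_cancel_right])) (by rwa [inv_inv])
    rw [← mem_cj_inv, inv_inv]
    exact (h.cj' g).mem_of h.syl.pgrp h.mem (h.comm a1).symm
  obtain ⟨x, y, n, hm⟩ := h.selfcent hr hU u1 u2 a1 e1 e2
  exact h.conj_of_mc hno hm ht

theorem se_or (h : ZT T z) (hc : ∀ t : G, orderOf t = 2 → IsPConstrained 2 (centralizer {t}))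
    (hO : pPrimeCore 2 G = ⊥) (h1 : ∀ t : G, orderOf t = 2 → ∃ k : G, k * t * k⁻¹ = z) :
    (∃ M : Subgroup G, IsStronglyEmbedded M) ∨ IsCharacteristicTwoType G := by
  have : Fact (Nat.Prime 2) := ⟨Nat.prime_two⟩
  have e0 : ∀ k t : G, centralizerPPrimeCore 2 (k * t * k⁻¹) = cj k (centralizerPPrimeCore 2 t) :=
    fun k t => by
      rw [Comp2.cpc_eq Nat.prime_two, Comp2.cpc_eq Nat.prime_two, ← BG.Amb.conj_centralizer_singleton,
        BG.Amb.piCoreOf_conj, cj_eq_smul]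
  by_cases hb : centralizerPPrimeCore 2 z = ⊥
  · refine Or.inr (Comp2.charTwo_of_cores ?_ hc fun t ht => ?_)
    · exact even_iff_two_dvd.2 (h.two ▸ orderOf_dvd_natCard z)
    · obtain ⟨k, hk⟩ := h1 t ht
      rwa [← hk, e0, cj_eq_bot] at hb
  have c1 := Comp2.centralizerPPrimeCore_coprime (p := 2) z
  have e1 : T ≤ centralizer (centralizerPPrimeCore 2 z : Set G) := by
    refine commutator_eq_bot_iff_le_centralizer.1 (eq_bot_of_not_dvd (H := centralizerPPrimeCore 2 z)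
      (h.syl.pgrp.to_le (commutator_le_left_of_le_normalizer
        ((Comp2.centralizerPPrimeCore_le z).trans h.cl))) (commutator_le_right_of_le_normalizer
        (h.cent.trans (Comp2.centralizer_le_normalizer_centralizerPPrimeCore z)))
      (Nat.prime_two.coprime_iff_not_dvd.1 c1.symm))
  have e2 : ∀ t ∈ T, orderOf t = 2 → centralizerPPrimeCore 2 t = centralizerPPrimeCore 2 z :=
    fun t t1 t2 => by
      obtain ⟨k, hk⟩ := h1 t t2
      refine (eq_of_le_of_card_le (le_trans (le_inf le_rfl fun x hx =>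
        mem_centralizer_singleton_iff.2 (e1 t1 x hx)) (Comp2.centralizerPPrimeCore_inf_le_of_constrained
        (k := 1) h.two (h.comm t1).symm (hc t t2))) ?_).symm
      rw [← hk, e0, card_cj]
  refine Or.inl ⟨_, se_crit (M := normalizer (centralizerPPrimeCore 2 z : Set G)) h.syl
    (fun e => ne_one_of_orderOf_eq h.two (mem_bot.1 (e ▸ h.mem))) (fun e => hb ?_) (fun n hn => ?_)
    fun t t1 t2 => e2 t t1 t2 ▸ Comp2.centralizer_le_normalizer_centralizerPPrimeCore t⟩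
  · exact le_bot_iff.1 (hO ▸ Core.le_pPrimeCore (normalizer_eq_top_iff.1 e) c1)
  · rw [← cj_eq_self_iff, ← e0, e2 _ (conj_mem_of_mem_normalizer hn h.mem) (Inv.two_conj h.two n)]

end ZT

theorem good_of_central (hT : IsSylowIn 2 T ⊤) (h3 : ¬ PRankLE 2 2 G) (hV : IsKleinFour V)
    (hc : T ≤ centralizer (V : Set G)) (ht : orderOf t = 2) : Comp2.Good 2 t := by
  have : Fact (Nat.Prime 2) := ⟨Nat.prime_two⟩
  obtain ⟨k, -, hk⟩ := hT.exists_conj_mem (k := 1) (mem_top t) (by rw [pow_one, ← ht, pow_orderOf_eq_one])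
  have t2 := Inv.two_conj ht k
  suffices H : Comp2.Good 2 (k * t * k⁻¹) by simpa [mul_assoc] using H.conj k⁻¹
  generalize k * t * k⁻¹ = t at hk t2
  by_cases e : t ∈ V
  · obtain ⟨A, a1, a2⟩ := BG.Rank.not_pRankLE_iff'.1 h3
    obtain ⟨l, -, hl⟩ := hT.exists_cj_le (ea_isPGroup a1) le_top
    exact ⟨t2, Comp2.Eight.not_rank (Comp2.Eight.conj ⟨a1, a2.ge⟩ l) (hl.trans (hc.trans
      (centralizer_le (Set.singleton_subset_iff.2 e))))⟩
  obtain ⟨c1, c2⟩ := Inv.exists_eight_of_four hV (hc hk) (Inv.mul_self_of_two t2) e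
  exact Comp2.good_of_mem (ea_mk (fun x hx y hy => (Inv.commute_of_mul_self (c2 x hx) (c2 y hy)
    (c2 _ (mul_mem hx hy))).eq) fun x hx => by rw [pow_two, c2 x hx]) c1.ge
    (mem_sup_right (mem_zpowers t)) (ne_one_of_orderOf_eq t2)

theorem se_or_of_good (he : Even (Nat.card G))
    (hc : ∀ t : G, orderOf t = 2 → IsPConstrained 2 (centralizer {t})) (hO : pPrimeCore 2 G = ⊥)
    (hg : ∀ t : G, orderOf t = 2 → Comp2.Good 2 t) :
    (∃ M : Subgroup G, IsStronglyEmbedded M) ∨ IsCharacteristicTwoType G :=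
  or_iff_not_imp_left.2 fun e => Comp2.charTwo_of_cores he hc fun _ ht =>
    Comp2.kill_cores (fun H h => absurd ⟨H, h⟩ e) hg hc hO ht

theorem se_comap {H : Type*} [Group H] [Finite H] (hM : IsStronglyEmbedded M) (f : H →* G)
    (hf : Function.Injective f) (hn : f.range.Normal) {s : H} (hs : orderOf s = 2) :
    IsStronglyEmbedded (M.comap f) := by
  obtain ⟨t, t1, t2⟩ := Inv.se_exists_two hM
  obtain ⟨k, hk⟩ := isConj_iff.1 (Inv.se_isConj hM ((orderOf_injective f hf s).trans hs) t2)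
  obtain ⟨u, rfl⟩ : t ∈ f.range := hk ▸ hn.conj_mem _ ⟨s, rfl⟩ k
  refine Inv.se_of (fun e => hM.1 (eq_top_iff.2 fun x _ => Inv.se_mem' hM t1 t2 ?_)) t1
    ((orderOf_injective f hf u).symm.trans t2) fun v v1 v2 g g1 =>
    Inv.se_mem' hM v1 ((orderOf_injective f hf v).trans v2) (by simpa using g1)
  obtain ⟨y, hy⟩ := hn.conj_mem _ ⟨u, rfl⟩ x
  exact hy ▸ e.ge (mem_top y)

/-- `O²(G) Ω₁(Z(S))`. -/
abbrev hz (S : Subgroup G) : Subgroup G := pResidual 2 G ⊔ omegaOneCenter 2 S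

theorem normal_hz (S : Sylow 2 G) : (hz (S : Subgroup G)).Normal := by
  have : Fact (Nat.Prime 2) := ⟨Nat.prime_two⟩
  rw [← normalizer_eq_top_iff, eq_top_iff, ← (isSylowIn_top S).pResOf_sup, pResOf_top]
  exact sup_le (le_sup_left.trans Subgroup.le_normalizer) (le_normalizer_sup (le_top.trans
    (normalizer_eq_top _).ge) (Subgroup.le_normalizer.trans
    (LocalEven.normalizer_le_normalizer_omegaOneCenter _)))

theorem syl_hz (S : Sylow 2 G) : IsSylowIn 2 ((S : Subgroup G).subgroupOf (hz (S : Subgroup G))) ⊤ := by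
  have : Fact (Nat.Prime 2) := ⟨Nat.prime_two⟩
  have := normal_hz S
  have := (sylow_inf_normal S (hz (S : Subgroup G))).subgroupOf le_rfl
  rwa [subgroupOf_self, inf_subgroupOf_right] at this

theorem exists_z (he : Even (Nat.card G)) (hO' : pPrimeCore 2 G = ⊥) (hO : pCore 2 G = ⊥)
    (S : Sylow 2 G) : ∃ z ∈ omegaOneCenter 2 (S : Subgroup G), z ∈ pResidual 2 G ∧ orderOf z = 2 := by
  have : Fact (Nat.Prime 2) := ⟨Nat.prime_two⟩
  obtain ⟨z, z1, z2, z3⟩ := exists_mem_inf_centralizer S.isPGroup' (sylow_inf_normal S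
    (pResidual 2 G)).pgrp (le_normalizer_inf Subgroup.le_normalizer (le_top.trans
    (normalizer_eq_top _).ge)) ((sylow_inf_normal S (pResidual 2 G)).ne_bot (by
      by_contra e
      have h1 : pResOf 2 (⊤ : Subgroup G) = ⊥ := pResOf_top.trans (le_bot_iff.1 (hO' ▸
        Core.le_pPrimeCore inferInstance (Nat.prime_two.coprime_iff_not_dvd.2 e).symm))
      have h2 := Core.le_pCore inferInstance (isPGroup_of_pResOf_eq_bot h1)
      rw [hO, top_le_iff] at h2
      rw [← card_top, ← h2, card_bot] at he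
      exact absurd he (by decide)))
  exact ⟨z, mem_omegaOneCenter.2 ⟨z1.1, z2, z3 ▸ pow_orderOf_eq_one z⟩, z1.2, z3⟩

theorem se_res {X : Subgroup G} (hX : pResidual 2 G ≤ X) {M : Subgroup X} (hM : IsStronglyEmbedded M)
    (z1 : z ∈ pResidual 2 G) (z2 : orderOf z = 2) :
    ∃ M : Subgroup (pResidual 2 G), IsStronglyEmbedded M :=
  ⟨_, se_comap hM (inclusion hX) (inclusion_injective hX) (by rw [inclusion_range]; infer_instance)
    (s := ⟨z, z1⟩) ((Subgroup.orderOf_mk _ _).trans z2)⟩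

theorem zc_main (he : Even (Nat.card G))
    (hC : ∀ t : G, orderOf t = 2 → Group.IsSolvable (centralizer ({t} : Set G))) (hZ : HypZ G)
    (hO' : pPrimeCore 2 G = ⊥) (hO : pCore 2 G = ⊥) (S : Sylow 2 G) {Z : Subgroup G}
    (hZ' : Z = omegaOneCenter 2 (S : Subgroup G)) :
    (∃ M : Subgroup (pResidual 2 G), IsStronglyEmbedded M) ∨
    (Nat.card ↥(Z ⊓ pResidual 2 G) = 2 ∧ ∀ h ∈ pResidual 2 G, ∀ z ∈ Z ⊓ pResidual 2 G,
      h * z * h⁻¹ ∈ (S : Subgroup G) → h * z * h⁻¹ ∈ Z) ∨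
    (Nat.card Z = 4 ∧ omegaOne 2 ((S : Subgroup G) ⊓ pResidual 2 G) = Z) ∨
    IsCharacteristicTwoType (hz (S : Subgroup G)) := by
  have : Fact (Nat.Prime 2) := ⟨Nat.prime_two⟩
  obtain ⟨z, z1, z2, z3⟩ := exists_z he hO' hO S
  have z4 := ne_one_of_orderOf_eq z3
  have hn := normal_hz S
  have hT := syl_hz S
  have zX : z ∈ hz (S : Subgroup G) := mem_sup_left z2
  have z5 : orderOf (⟨z, zX⟩ : hz (S : Subgroup G)) = 2 := (Subgroup.orderOf_mk _ _).trans z3
  have heX : Even (Nat.card (hz (S : Subgroup G))) := even_iff_two_dvd.2 (dvd_card_of_mem zX z3)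
  have hc : ∀ t : hz (S : Subgroup G), orderOf t = 2 → IsPConstrained 2 (centralizer {t}) :=
    fun t ht => by
      have := hC t (by rw [Subgroup.orderOf_coe, ht])
      exact Core.isPConstrained_of_solvable 2 (solvable_of_solvable_injective (f := ((hz (S : Subgroup
        G)).subtype.comp (centralizer {t}).subtype).codRestrict (centralizer {(t : G)}) fun x =>
        mem_centralizer_singleton_iff.2 (congrArg Subtype.val (mem_centralizer_singleton_iff.1 x.2)))
        fun x y e => Subtype.ext (Subtype.ext (congrArg (fun y : centralizer {(t : G)} => (y : G)) e)))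
  have hOX : pPrimeCore 2 (hz (S : Subgroup G)) = ⊥ := by
    rw [Core.pPrimeCore_eq_subgroupOf, hO', bot_subgroupOf]
  have fin : (∃ M : Subgroup (hz (S : Subgroup G)), IsStronglyEmbedded M) ∨
      IsCharacteristicTwoType (hz (S : Subgroup G)) → (∃ M : Subgroup (pResidual 2 G),
      IsStronglyEmbedded M) ∨ IsCharacteristicTwoType (hz (S : Subgroup G)) :=
    Or.imp_left fun ⟨M, hM⟩ => se_res le_sup_left hM z2 z3
  have mZ := fun x => mem_omegaOneCenter (p := 2) (T := (S : Subgroup G)) (x := x)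
  by_cases h1 : ∃ w ∈ Z, w ≠ 1 ∧ w ≠ z
  · obtain ⟨w, w1, w2, w3⟩ := h1
    rw [hZ'] at w1
    have w4 := orderOf_eq_prime ((mZ w).1 w1).2.2 w2
    have wz : Commute z w := ((mZ w).1 w1).2.1 z ((mZ z).1 z1).1
    by_cases h3 : PRankLE 2 2 (hz (S : Subgroup G))
    · have hV := Inv.isKleinFour_closure z3 w4 wz w3.symm
      have vZ : closure {z, w} ≤ omegaOneCenter 2 (S : Subgroup G) :=
        (closure_le _).2 (by rintro _ (rfl | rfl); exacts [z1, w1])
      have mV : ∀ c ∈ (S : Subgroup G), c ∈ hz (S : Subgroup G) → c ^ 2 = 1 → c ∈ closure {z, w} :=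
        fun c c1 c2 c3 => (Inv.r2_of_pRankLE h3).mem_four hV (vZ.trans le_sup_right) c2
          (pow_two c ▸ c3) fun v hv => (((mZ v).1 (vZ hv)).2.1 c c1).symm
      have e : Z = closure {z, w} := hZ' ▸ le_antisymm (fun c hc =>
        mV c ((mZ c).1 hc).1 (mem_sup_right hc) ((mZ c).1 hc).2.2) vZ
      have c4 : Nat.card Z = 4 := e ▸ Inv.four_card hV
      by_cases h2 : Z ≤ pResidual 2 G
      · refine Or.inr (Or.inr (Or.inl ⟨c4, le_antisymm (LocalEven.omegaOne_le_iff.2 fun c c1 c2 =>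
          e ▸ mV c c1.1 (mem_sup_left c1.2) c2) fun c hc => LocalEven.mem_omegaOne
          ⟨((mZ c).1 (hZ' ▸ hc)).1, h2 hc⟩ ((mZ c).1 (hZ' ▸ hc)).2.2⟩))
      refine Or.inr (Or.inl ⟨?_, fun h h1 c c1 c2 => e ▸ mV _ c2 (mem_sup_left (mul_mem
        (mul_mem h1 c1.2) (inv_mem h1))) (by rw [conj_pow, ((mZ c).1 (hZ' ▸ c1.1)).2.2]; simp)⟩)
      have d1 := card_dvd_of_le (inf_le_left : Z ⊓ pResidual 2 G ≤ Z)
      have d2 := dvd_card_of_mem (H := Z ⊓ pResidual 2 G) ⟨hZ' ▸ z1, z2⟩ z3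
      have d3 : Nat.card ↥(Z ⊓ pResidual 2 G) ≠ 4 := fun e =>
        h2 (inf_eq_left.1 (eq_of_le_of_card_le inf_le_left (by omega)))
      rw [c4] at d1
      have := Nat.le_of_dvd (by norm_num) d1
      interval_cases Nat.card ↥(Z ⊓ pResidual 2 G) <;> omega
    have wX : w ∈ hz (S : Subgroup G) := mem_sup_right w1
    refine Or.imp_right (fun e => Or.inr (Or.inr e)) (fin (se_or_of_good heX hc hOX fun t ht =>
      good_of_central hT h3 (Inv.isKleinFour_closure
      z5 (b := ⟨w, wX⟩) ((Subgroup.orderOf_mk w wX).trans w4) (Subtype.ext wz.eq)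
      fun e => w3 (congrArg Subtype.val e).symm) (fun x hx => ?_) ht))
    rw [centralizer_closure]
    rintro _ (rfl | rfl)
    exacts [Subtype.ext (((mZ z).1 z1).2.1 x hx).symm, Subtype.ext (((mZ w).1 w1).2.1 x hx).symm]
  push Not at h1
  have e : Z = zpowers z := le_antisymm (fun w hw => by
    by_cases e : w = 1
    exacts [e ▸ one_mem _, h1 w hw e ▸ mem_zpowers _]) (zpowers_le.2 (hZ' ▸ z1))
  have hno : ∀ K : Subgroup (hz (S : Subgroup G)), K.index ≠ 2 := by
    rw [hz, ← hZ', e, sup_eq_left.2 (zpowers_le.2 z2)]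
    exact Inv.no_index_two_pResidual
  by_cases h3 : PRankLE 2 2 (hz (S : Subgroup G))
  swap
  · exact Or.imp_right (fun e => Or.inr (Or.inr e))
      (fin (se_or_of_good heX hc hOX fun t => Comp2.good_of_no_index_two h3 hno))
  by_cases h2 : ∃ h ∈ pResidual 2 G, h * z * h⁻¹ ∈ (S : Subgroup G) ∧ h * z * h⁻¹ ≠ z
  · obtain ⟨k, k1, k2, k3⟩ := h2
    have h : ZT ((S : Subgroup G).subgroupOf (hz (S : Subgroup G))) ⟨z, zX⟩ := ⟨hT, ((mZ z).1 z1).1,
      z5, fun x hx => mem_centralizer_singleton_iff.2 (Subtype.ext (((mZ z).1 z1).2.1 x hx)),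
      fun x hx => le_normalizer_comap _ (hZ S (x := x) (by
        change _ ∈ centralizer (omegaOneCenter 2 (S : Subgroup G) : Set G)
        rw [← hZ', e, LocalEven.centralizer_zpowers, mem_centralizer_singleton_iff]
        exact congrArg Subtype.val (mem_centralizer_singleton_iff.1 hx)))⟩
    exact Or.imp_right (fun e => Or.inr (Or.inr e)) (fin (h.se_or hc hOX fun t ht =>
      h.one_class (g := ⟨k, mem_sup_left k1⟩) hno ((Inv.r2_top_of_pRankLE h3).mono le_top) k2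
      (fun e => k3 (congrArg Subtype.val e)) ht))
  push Not at h2
  refine Or.inr (Or.inl ⟨by rw [e, inf_eq_left.2 (zpowers_le.2 z2), Nat.card_zpowers, z3],
    fun h h4 c c1 c2 => ?_⟩)
  rcases mem_zpowers_two (Inv.mul_self_of_two z3) (e ▸ c1.1) with rfl | rfl
  · simp
  · rw [h2 h h4 c2]; exact c1.1

theorem Pair.cent_W {K L K' L' : Subgroup G} (h : Pair T K L K' L') (hP : IsPGroup 2 P)
    (h1 : P ≤ pResidual 2 G) : P ⊓ centralizer (wOf K : Set G) ≤ wOf K := fun c ⟨c1, c2⟩ => by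
  have : Fact (Nat.Prime 2) := ⟨Nat.prime_two⟩
  have k0 := h.L_eq.le.trans (sup_le (Subgroup.le_normalizer.trans (norm_wOf K))
    (h.h1.tn.trans (norm_wOf K)))
  obtain ⟨n, hn⟩ := isPGroup_iff_mem.1 hP c c1
  obtain ⟨l, l1, l2⟩ := h.h1.jo.syl.exists_conj_mem
    ((h.h1.max.2 _ h.h1.local_W k0).le (centralizer_le_normalizer' _ c2)) hn
  have l3 := conj_mem_of_mem_normalizer (le_normalizer_centralizer k0 l1) c2
  have l4 : l * c * l⁻¹ ∈ pResidual 2 G := (inferInstance : (pResidual 2 G).Normal).conj_mem _ (h1 c1) l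
  suffices H : l * c * l⁻¹ ∈ wOf K by simpa [mul_assoc] using inv_conj_mem_of_mem_normalizer (k0 l1) H
  generalize l * c * l⁻¹ = s at l2 l3 l4
  refine h.inf_res.le ⟨by_contra fun e => ?_, l4⟩
  obtain ⟨a, a1, a2⟩ := h.exists_a
  obtain ⟨b, b1, b2⟩ := h.symm.exists_a
  have e1 := h.comm (h.W_le a1) (h.h1.mul_mem (h.symm.W_le_T b1) l2 b2 e)
  refine (h.comm_ab a1 a2 b1 b2).2 (commutatorElement_eq_one_iff_mul_comm.2 (mul_right_cancel
    (b := s) ?_))
  rw [mul_assoc, e1, mul_assoc, mul_assoc, l3 a a1]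

theorem hypZ_of (hZ : HypZ G) {S X : Subgroup G} (hS : IsSylowIn 2 S ⊤)
    (hT : IsSylowIn 2 (S.subgroupOf X) ⊤) (hX : omegaOneCenter 2 S ≤ X) : HypZ X := by
  have : Fact (Nat.Prime 2) := ⟨Nat.prime_two⟩
  intro R x hx
  replace hx : x ∈ centralizer (omegaOneCenter 2 (R : Subgroup X) : Set X) := hx
  obtain ⟨g, -, hg⟩ := hT.conj (isSylowIn_top R)
  have e : (R : Subgroup X) = (cj (g : G) S).subgroupOf _ := by
    rw [← hg]; ext; rw [mem_cj, mem_subgroupOf, mem_subgroupOf, mem_cj]; rfl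
  have e3 : (x : G) ∈ centralizer (omegaOneCenter 2 (cj (g : G) S) : Set G) := fun z z1 => by
    have z2 : z ∈ X := cj_le_of_mem g.2 hX (by rwa [cj_omegaOneCenter])
    obtain ⟨z3, z4, z5⟩ := mem_omegaOneCenter.1 z1
    have z6 : (⟨z, z2⟩ : X) ∈ omegaOneCenter 2 (R : Subgroup X) := by
      rw [mem_omegaOneCenter, e]
      exact ⟨z3, fun y hy => Subtype.ext (z4 y hy), Subtype.ext z5⟩
    exact congrArg Subtype.val (hx _ z6)
  rw [e]
  exact le_normalizer_comap _ (HypZ.le hZ (hS.cj_of_mem (mem_top (g : G))) e3)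

theorem zn_main (he : Even (Nat.card G)) (hN : ∀ N : Subgroup G, IsTwoLocal N → Group.IsSolvable N)
    (hZ : HypZ G) (hO' : pPrimeCore 2 G = ⊥) (hO : pCore 2 G = ⊥) (S : Sylow 2 G)
    (h : IsCharacteristicTwoType (hz (S : Subgroup G))) :
    (∃ M : Subgroup (pResidual 2 G), IsStronglyEmbedded M) ∨
    (∃ n : ℕ, 2 ≤ n ∧ Nonempty (↥((S : Subgroup G) ⊓ pResidual 2 G) ≃* DihedralGroup n)) ∨
      IsQuasiDihedral ↥((S : Subgroup G) ⊓ pResidual 2 G) := by
  have : Fact (Nat.Prime 2) := ⟨Nat.prime_two⟩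
  obtain ⟨z, z1, z2, z3⟩ := exists_z he hO' hO S
  have hn := normal_hz S
  have hT := syl_hz S
  have h1 := hypZ_of hZ (isSylowIn_top S) hT le_sup_right
  have hX : pResidual 2 G ≤ hz (S : Subgroup G) := le_sup_left
  generalize hz (S : Subgroup G) = X at *
  have h2 : ZN X := ⟨h, ?_, h1⟩
  swap
  · rintro _ ⟨P, p1, p2, rfl⟩
    have := hN _ ⟨P.map X.subtype, p1.map _, fun e => p2 (map_subtype_inj.1 (by simpa using e)), rfl⟩
    exact solvable_of_solvable_injective (f := (X.subtype.comp (Subgroup.subtype _)).codRestrict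
      (normalizer (P.map X.subtype : Set G)) fun x => le_normalizer_map _ ⟨_, x.2, rfl⟩)
      fun x y e => Subtype.ext (Subtype.ext (congrArg
        (fun y : normalizer (P.map X.subtype : Set G) => (y : G)) e))
  refine (h2.se_or_pair (by rw [Core.pCore_eq_subgroupOf, hO, bot_subgroupOf])).imp
    (fun ⟨M, hM⟩ => se_res hX hM z2 z3) fun ⟨T, K, L, K', L', h⟩ => ?_
  have e : pResidual 2 X = (pResidual 2 G).subgroupOf X := by
    rw [← pResOf_subgroupOf, pResOf_eq_of_le (H := ⊤) (pResOf_top.le.trans hX) le_top, pResOf_top]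
  have wH := (wOf_le_self K).trans h.K_le_res
  obtain ⟨g, -, hg⟩ := hT.exists_le_cj (ea_isPGroup (ea_wOf K)) le_top
  have p1 : IsPGroup 2 ↥(cj g ((S : Subgroup G).subgroupOf X) ⊓ pResidual 2 X) :=
    (isPGroup_cj g hT.pgrp).to_le inf_le_left
  have i : ↥((S : Subgroup G) ⊓ pResidual 2 G) ≃* ↥(cj g ((S : Subgroup G).subgroupOf X) ⊓
      pResidual 2 X) := ((subgroupOfEquivOfLe (inf_le_right.trans hX)).symm.trans (cjEquiv g _)).trans
    (MulEquiv.subgroupCongr (by rw [← cj_eq_of_normal g (pResidual 2 X), ← cj_inf, e]; rfl))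
  exact (maxclass_of_four p1 (Comp2.four_of_elem (ea_wOf K) h.h1.card) (le_inf hg wH)
    (h.cent_W p1 inf_le_right)).imp (fun ⟨n, h1, ⟨j⟩⟩ => ⟨n, h1, ⟨i.trans j⟩⟩)
    fun ⟨n, h1, h2, x, y, h3, h4, h5⟩ => ⟨n, h1, by rw [Nat.card_congr i.toEquiv, h2], i.symm x, i.symm y,
      by rw [MulEquiv.orderOf_eq, h3], by rw [MulEquiv.orderOf_eq, h4], by rw [← map_pow, ← h5]; simp⟩

end Cfsg.Agent.PLocal
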